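import Cfsg.Agent.LyThree33.Tree

/-! Generated: images, parents and the sorted order of one orbit. -/

set_option autoImplicit false
set_option maxRecDepth 100000

namespace CfsgLib.LyThree33

/-- links -/
def nx0 : Tree :=
(.node 121
(.node 60
(.node 30
(.node 15
(.node 7
(.node 3
(.node 1
(.one 50339841)
(.node 1
(.one 100683780)
(.one 151027719)))
(.node 2
(.node 1
(.one 201371658)
(.one 251715597))
(.node 1
(.one 302059536)
(.one 352403475))))
(.node 4
(.node 2
(.node 1
(.one 402747414)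
(.one 436207641))
(.node 1
(.one 486653979)
(.one 536997918)))
(.node 2
(.node 1
(.one 587341857)
(.one 151588))
(.node 1
(.one 671248422)
(.one 721592361)))))
(.node 7
(.node 3
(.node 1
(.one 771936300)
(.node 1
(.one 822280239)
(.one 855642162)))
(.node 2
(.node 1
(.one 906186804)
(.one 956530743))
(.node 1
(.one 1006874682)
(.one 17031229))))
(.node 4
(.node 2
(.node 1
(.one 1073999911)
(.one 1124343873))
(.node 1
(.one 1174687812)
(.one 1225031751)))
(.node 2
(.node 1
(.one 1275375690)
(.one 1325719629))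
(.node 1
(.one 1376063568)
(.one 33898579))))))
(.node 15
(.node 7
(.node 3
(.node 1
(.one 1443188776)
(.node 1
(.one 1476722775)
(.one 1527095385)))
(.node 2
(.node 1
(.one 1560584284)
(.one 1593847902))
(.node 1
(.one 1644564576)
(.one 1694908515))))
(.node 4
(.node 2
(.node 1
(.one 1745252454)
(.one 1795596393))
(.node 1
(.one 1845940332)
(.one 1896284271)))
(.node 2
(.node 1
(.one 1946628210)
(.one 1979727989))
(.node 1
(.one 2030534775)
(.one 2080878714)))))
(.node 7
(.node 3
(.node 1
(.one 2131222653)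
(.node 1
(.one 67637376)
(.one 2198347882)))
(.node 2
(.node 1
(.one 2248691844)
(.one 2299035783))
(.node 1
(.one 2349379722)
(.one 2399723661))))
(.node 4
(.node 2
(.node 1
(.one 2450067600)
(.one 2500411539))
(.node 1
(.one 84504726)
(.one 2567536747)))
(.node 2
(.node 1
(.one 2601070746)
(.one 2651443356))
(.node 1
(.one 2684932255)
(.one 2717933729)))))))
(.node 30
(.node 15
(.node 7
(.node 3
(.node 1
(.one 2768912547)
(.node 1
(.one 2819256486)
(.one 2869600425)))
(.node 2
(.node 1
(.one 2013974700)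
(.one 2953506990))
(.node 1
(.one 2986774705)
(.one 3019927731))))
(.node 4
(.node 2
(.node 1
(.one 3070976181)
(.one 3121320120))
(.node 1
(.one 3171664059)
(.one 118223038)))
(.node 2
(.node 1
(.one 3238789229)
(.one 3289133250))
(.node 1
(.one 3339477189)
(.one 3389821128)))))
(.node 7
(.node 3
(.node 1
(.one 3440165067)
(.node 1
(.one 135065806)
(.one 3507290222)))
(.node 2
(.node 1
(.one 3540824274)
(.one 3591196884))
(.node 1
(.one 3623919831)
(.one 3657470169))))
(.node 4
(.node 2
(.node 1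
(.one 3708666075)
(.one 3759010014))
(.node 1
(.one 3809353953)
(.one 2836287716)))
(.node 2
(.node 1
(.one 3876479100)
(.one 3926823144))
(.node 1
(.one 3977167083)
(.one 1762168985))))))
(.node 15
(.node 7
(.node 3
(.node 1
(.one 4027511022)
(.node 1
(.one 168763633)
(.one 4094636144)))
(.node 2
(.node 1
(.one 4144980213)
(.one 4195324152))
(.node 1
(.one 4228698363)
(.one 4262310141))))
(.node 4
(.node 2
(.node 1
(.one 4295860479)
(.one 185606401))
(.node 1
(.one 4363137137)
(.one 4379898011)))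
(.node 2
(.node 1
(.one 4430262534)
(.one 4463767817))
(.node 1
(.one 1962983691)
(.one 4530950412)))))
(.node 8
(.node 4
(.node 2
(.node 1
(.one 4581294351)
(.one 4631638290))
(.node 1
(.one 4681982229)
(.one 4732326168)))
(.node 2
(.node 1
(.one 4764782875)
(.one 4816232733))
(.node 1
(.one 4866576672)
(.one 4916920611))))
(.node 4
(.node 2
(.node 1
(.one 219312422)
(.one 4984045840))
(.node 1
(.one 5034389802)
(.one 5084733741)))
(.node 2
(.node 1
(.one 5118296087)
(.one 5168640306))
(.node 1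
(.one 5218984245)
(.one 5269328184))))))))
(.node 61
(.node 30
(.node 15
(.node 7
(.node 3
(.node 1
(.one 236175675)
(.node 1
(.one 5336453393)
(.one 5369987391)))
(.node 2
(.node 1
(.one 5420360001)
(.one 5453848900))
(.node 1
(.one 5486211398)
(.one 5537829192))))
(.node 4
(.node 2
(.node 1
(.one 5571391520)
(.one 5621735757))
(.node 1
(.one 4799664464)
(.one 5705642322)))
(.node 2
(.node 1
(.one 5738918229)
(.one 5771428183))
(.node 1
(.one 5823111513)
(.one 5873455452)))))
(.node 7
(.node 3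
(.node 1
(.one 5923799391)
(.node 1
(.one 269889890)
(.one 5990924563)))
(.node 2
(.node 1
(.one 6041268582)
(.one 6091612521))
(.node 1
(.one 6141956460)
(.one 6192300399))))
(.node 4
(.node 2
(.node 1
(.one 286732658)
(.one 6259425556))
(.node 1
(.one 6292959606)
(.one 6343332216)))
(.node 2
(.node 1
(.one 6375420283)
(.one 6408970621))
(.node 1
(.one 6460801407)
(.one 6511145346))))))
(.node 15
(.node 7
(.node 3
(.node 1
(.one 6561489285)
(.node 1
(.one 5588423048)
(.one 6628614434)))
(.node 2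
(.node 1
(.one 6678958476)
(.one 6729302415))
(.node 1
(.one 4547866942)
(.one 6762864675))))
(.node 4
(.node 2
(.node 1
(.one 320426388)
(.one 6829990166))
(.node 1
(.one 6880334232)
(.one 6930678171)))
(.node 2
(.node 1
(.one 6964056478)
(.one 6997668256))
(.node 1
(.one 7031218594)
(.one 337269156)))))
(.node 8
(.node 4
(.node 2
(.node 1
(.one 7098491159)
(.one 7115252032))
(.node 1
(.one 7165616553)
(.one 7199121836)))
(.node 2
(.node 1
(.one 4748038574)
(.one 7266304431))
(.node 1
(.one 7316648370)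
(.one 7348511157))))
(.node 4
(.node 2
(.node 1
(.one 7400554935)
(.one 5303415226))
(.node 1
(.one 370360764)
(.one 7484461337)))
(.node 2
(.node 1
(.one 7534805439)
(.one 6075199938))
(.node 1
(.one 7601209796)
(.one 6712750534)))))))
(.node 30
(.node 15
(.node 7
(.node 3
(.node 1
(.one 7685837256)
(.node 1
(.one 387760587)
(.one 7752962330)))
(.node 2
(.node 1
(.one 7769719190)
(.one 7820087760))
(.node 1
(.one 7853588947)
(.one 7885390293))))
(.node 4
(.node 2
(.node 1
(.one 7937556951)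
(.one 7987900890))
(.node 1
(.one 5722173917)
(.one 5252641246)))
(.node 2
(.node 1
(.one 8055025974)
(.one 8087765473))
(.node 1
(.one 8120275427)
(.one 8172495333)))))
(.node 7
(.node 3
(.node 1
(.one 8222839272)
(.node 1
(.one 8273183211)
(.one 420745710)))
(.node 2
(.node 1
(.one 7215382812)
(.one 8321634799))
(.node 1
(.one 8357089627)
(.one 8388719091))))
(.node 4
(.node 2
(.node 1
(.one 6845211125)
(.one 5102334454))
(.node 1
(.one 8474558873)
(.one 5756662266)))
(.node 2
(.node 1
(.one 8004481366)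
(.one 8541684153))
(.node 1
(.one 8575246693)
(.one 8608809294))))))
(.node 15
(.node 7
(.node 3
(.node 1
(.one 4699460046)
(.node 1
(.one 8659153410)
(.one 455107077)))
(.node 2
(.node 1
(.one 8726278430)
(.one 8776622601))
(.node 1
(.one 8826966540)
(.one 8858513935))))
(.node 4
(.node 2
(.node 1
(.one 8893981201)
(.one 8927150611))
(.node 1
(.one 471949845)
(.one 8994779423)))
(.node 2
(.node 1
(.one 9011540431)
(.one 9045123501))
(.node 1
(.one 9078632988)
(.one 7331762718)))))
(.node 8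
(.node 4
(.node 2
(.node 1
(.one 9129030051)
(.one 7786865185))
(.node 1
(.one 8288067610)
(.one 9212936739)))
(.node 2
(.node 1
(.one 505569612)
(.one 9263280417))
(.node 1
(.one 9313624617)
(.one 9363968556))))
(.node 4
(.node 2
(.node 1
(.one 9380430155)
(.one 9414312291))
(.node 1
(.one 522400306)
(.one 9481261620)))
(.node 2
(.node 1
(.one 9496035655)
(.one 9548562999))
(.node 1
(.one 4648968615)
(.one 9598906938)))))))))

/-- links -/
def nx1 : Tree :=
(.node 121
(.node 60
(.node 30
(.node 15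
(.node 7
(.node 3
(.node 1
(.one 6948119101)
(.node 1
(.one 9665770047)
(.one 9716376129)))
(.node 2
(.node 1
(.one 9749938484)
(.one 556032403))
(.node 1
(.one 7904456996)
(.one 9833845320))))
(.node 4
(.node 2
(.node 1
(.one 9884189259)
(.one 9917751698))
(.node 1
(.one 571830864)
(.one 9968095525)))
(.node 2
(.node 1
(.one 10018439763)
(.one 10049700438))
(.node 1
(.one 10085286488)
(.one 10118378074)))))
(.node 7
(.node 3
(.node 1
(.one 10152006236)
(.node 1
(.one 9564930654)
(.one 10203033923)))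
(.node 2
(.node 1
(.one 10253378145)
(.one 4834124171))
(.node 1
(.one 5354439080)
(.one 606495333))))
(.node 4
(.node 2
(.node 1
(.one 10337284391)
(.one 5186691689))
(.node 1
(.one 10387317111)
(.one 10421109356)))
(.node 2
(.node 1
(.one 10437591057)
(.one 623313519))
(.node 1
(.one 10521879153)
(.one 10536357992))))))
(.node 15
(.node 7
(.node 3
(.node 1
(.one 1495753333)
(.node 1
(.one 10622567031)
(.one 10653688442)))
(.node 2
(.node 1
(.one 10706473596)
(.one 10756817535))
(.node 1
(.one 10807161474)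
(.one 637821014))))
(.node 4
(.node 2
(.node 1
(.one 10840724082)
(.one 10891068039))
(.node 1
(.one 10941411978)
(.one 10974974000)))
(.node 2
(.node 1
(.one 11025318543)
(.one 11058880597))
(.node 1
(.one 11109225108)
(.one 657031831)))))
(.node 7
(.node 3
(.node 1
(.one 11176350323)
(.node 1
(.one 11209884315)
(.one 11260256925)))
(.node 2
(.node 1
(.one 11293749920)
(.one 11324785314))
(.node 1
(.one 11377726116)
(.one 11411288121))))
(.node 4
(.node 2
(.node 1
(.one 11461632681)
(.one 10689893036))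
(.node 1
(.one 11545539246)
(.one 11578839729)))
(.node 2
(.node 1
(.one 11610002099)
(.one 11663008437))
(.node 1
(.one 11713352376)
(.one 11763696315)))))))
(.node 30
(.node 15
(.node 7
(.node 3
(.node 1
(.one 690746046)
(.node 1
(.one 1261179584)
(.one 1730949826)))
(.node 2
(.node 1
(.one 11914728132)
(.one 11965072071))
(.node 1
(.one 707572426)
(.one 1714209396))))
(.node 4
(.node 2
(.node 1
(.one 12048954061)
(.one 12099322575))
(.node 1
(.one 12130108114)
(.one 12163658452)))
(.node 2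
(.node 1
(.one 1059943126)
(.one 12250354392))
(.node 1
(.one 12300698331)
(.one 11428295390)))))
(.node 7
(.node 3
(.node 1
(.one 12367823489)
(.node 1
(.one 12418167522)
(.one 12468511461)))
(.node 2
(.node 1
(.one 10488431258)
(.one 12502073404))
(.node 1
(.one 741257962)
(.one 12569199222))))
(.node 4
(.node 2
(.node 1
(.one 12619543278)
(.one 12669887217))
(.node 1
(.one 12703273716)
(.one 12736881398)))
(.node 2
(.node 1
(.one 12770431736)
(.one 758100730))
(.node 1
(.one 12820906652)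
(.one 12854480997))))))
(.node 15
(.node 7
(.node 3
(.node 1
(.one 12887999231)
(.node 1
(.one 10636944129)
(.one 12935525122)))
(.node 2
(.node 1
(.one 12988732164)
(.one 13019312903))
(.node 1
(.one 13072638729)
(.one 11143271180))))
(.node 4
(.node 2
(.node 1
(.one 791221006)
(.one 13156545144))
(.node 1
(.one 13206889233)
(.one 11864724244)))
(.node 2
(.node 1
(.one 13273350934)
(.one 12451943192))
(.node 1
(.one 13357921050)
(.one 808575773)))))
(.node 8
(.node 4
(.node 2
(.node 1
(.one 13425046137)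
(.one 13441802988))
(.node 1
(.one 13492171554)
(.one 13525672741)))
(.node 2
(.node 1
(.one 13556192039)
(.one 13609640745))
(.node 1
(.one 13659984684)
(.one 11559867183))))
(.node 4
(.node 2
(.node 1
(.one 11092538160)
(.one 13727109778))
(.node 1
(.one 13759902515)
(.one 13791077173)))
(.node 2
(.node 1
(.one 13844579127)
(.one 13894923066))
(.node 1
(.one 13945267005)
(.one 841601856))))))))
(.node 61
(.node 30
(.node 15
(.node 7
(.node 3
(.node 1
(.one 12904297083)
(.node 1
(.one 13992436545)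
(.one 14029173431)))
(.node 2
(.node 1
(.one 14059520837)
(.one 12583121735))
(.node 1
(.one 10958967624)
(.one 14146642671))))
(.node 4
(.node 2
(.node 1
(.one 11596518220)
(.one 13676569266))
(.node 1
(.one 14213767947)
(.one 14247329859)))
(.node 2
(.node 1
(.one 14280893098)
(.one 10589647648))
(.node 1
(.one 14314455124)
(.one 875918166)))))
(.node 7
(.node 3
(.node 1
(.one 14381580925)
(.node 1
(.one 14415143009)
(.one 14465487708)))
(.node 2
(.node 1
(.one 14495761247)
(.one 14532510561))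
(.node 1
(.one 14565696355)
(.one 892756837))))
(.node 4
(.node 2
(.node 1
(.one 14633300606)
(.one 14650061601))
(.node 1
(.one 14683644672)
(.one 14717154156)))
(.node 2
(.node 1
(.one 13002564462)
(.one 14767551225))
(.node 1
(.one 13458940785)
(.one 13958869043))))))
(.node 15
(.node 7
(.node 3
(.node 1
(.one 14851457907)
(.node 1
(.one 926376616)
(.one 14901801600)))
(.node 2
(.node 1
(.one 14952145785)
(.one 15002489724))
(.node 1
(.one 15018959527)
(.one 15052833471))))
(.node 4
(.node 2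
(.node 1
(.one 943207298)
(.one 15099728547))
(.node 1
(.one 15153521541)
(.one 10555949147)))
(.node 2
(.node 1
(.one 15203865480)
(.one 12687295371))
(.node 1
(.one 15270744973)
(.one 15301157775)))))
(.node 8
(.node 4
(.node 2
(.node 1
(.one 15338115729)
(.one 976827113))
(.node 1
(.one 13576520323)
(.one 15422022549)))
(.node 2
(.node 1
(.one 15472366488)
(.one 15505928936))
(.node 1
(.one 992687005)
(.one 15556272772))))
(.node 4
(.node 2
(.node 1
(.one 15606616992)
(.one 15636616099))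
(.node 1
(.one 15673476005)
(.one 15706592167)))
(.node 2
(.node 1
(.one 15740203945)
(.one 15169905579))
(.node 1
(.one 15791211167)
(.one 15841555374)))))))
(.node 30
(.node 15
(.node 7
(.node 3
(.node 1
(.one 10724303585)
(.node 1
(.one 11194274556)
(.one 1023725571)))
(.node 2
(.node 1
(.one 15891898438)
(.one 1429951412))
(.node 1
(.one 15941952206)
(.one 15958953986))))
(.node 4
(.node 2
(.node 1
(.one 15975448618)
(.one 1044095929))
(.node 1
(.one 16042930821)
(.one 16059626336)))
(.node 2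
(.node 1
(.one 16110056382)
(.one 16123306056))
(.node 1
(.one 16177181634)
(.one 16210743942)))))
(.node 7
(.node 3
(.node 1
(.one 15538668487)
(.node 1
(.one 16243626046)
(.one 14516233161)))
(.node 2
(.node 1
(.one 16290939850)
(.one 16310603855))
(.node 1
(.one 11009839974)
(.one 11446055886))))
(.node 4
(.node 2
(.node 1
(.one 16395338444)
(.one 16428901145))
(.node 1
(.one 1094533969)
(.one 16479244936)))
(.node 2
(.node 1
(.one 16529589207)
(.one 15454626640))
(.node 1
(.one 1109935066)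
(.one 16579932809))))))
(.node 15
(.node 7
(.node 3
(.node 1
(.one 16612049885)
(.node 1
(.one 14009254879)
(.one 16660050912)))
(.node 2
(.node 1
(.one 16714183650)
(.one 15590118086))
(.node 1
(.one 11495429094)
(.one 11982455736))))
(.node 4
(.node 2
(.node 1
(.one 15908139667)
(.one 16798090215))
(.node 1
(.one 10506470342)
(.one 16831651922)))
(.node 2
(.node 1
(.one 1144964019)
(.one 16881996427))
(.node 1
(.one 16895062111)
(.one 14398985200)))))
(.node 8
(.node 4
(.node 2
(.node 1
(.one 13743154162)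
(.one 16965837746))
(.node 1
(.one 13224514548)
(.one 1161777915)))
(.node 2
(.node 1
(.one 17033028236)
(.one 17049797534))
(.node 1
(.one 11161019385)
(.one 17100120806))))
(.node 4
(.node 2
(.node 1
(.one 17133716335)
(.one 12201227262))
(.node 1
(.one 1195131904)
(.one 17199424141)))
(.node 2
(.node 1
(.one 13391242242)
(.one 13929300995))
(.node 1
(.one 17283191813)
(.one 16780825607)))))))))

/-- links -/
def nx2 : Tree :=
(.node 121
(.node 60
(.node 30
(.node 15
(.node 7
(.node 3
(.node 1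
(.one 17333691400)
(.node 1
(.one 1212199946)
(.one 13374870158)))
(.node 2
(.node 1
(.one 14298416109)
(.one 17402217235))
(.node 1
(.one 17418965882)
(.one 17448604687))))
(.node 4
(.node 2
(.node 1
(.one 13693154321)
(.one 17519686674))
(.node 1
(.one 17553249238)
(.one 17568481995)))
(.node 2
(.node 1
(.one 17620374552)
(.one 1245824027))
(.node 1
(.one 17687499408)
(.one 17719931935)))))
(.node 7
(.node 3
(.node 1
(.one 17736410018)
(.node 1
(.one 17767466018)
(.one 17801016356)))
(.node 2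
(.node 1
(.one 17821746004)
(.one 13291910139))
(.node 1
(.one 17854690114)
(.one 12918768681))))
(.node 4
(.node 2
(.node 1
(.one 17905656614)
(.one 1295299532))
(.node 1
(.one 14162821812)
(.one 15925953340)))
(.node 2
(.node 1
(.one 17938461652)
(.one 1313010734))
(.node 1
(.one 11479937881)
(.one 17985500107))))))
(.node 15
(.node 7
(.node 3
(.node 1
(.one 18039907377)
(.node 1
(.one 10909316087)
(.one 18090251316)))
(.node 2
(.node 1
(.one 16948572980)
(.one 15858754256))
(.node 1
(.one 12956435511)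
(.one 18157376452))))
(.node 4
(.node 2
(.node 1
(.one 1346614251)
(.one 17469522581))
(.node 1
(.one 13627548733)
(.one 18274845759)))
(.node 2
(.node 1
(.one 18308408298)
(.one 1359381572))
(.node 1
(.one 18358751894)
(.one 18392314733)))))
(.node 7
(.node 3
(.node 1
(.one 18421724233)
(.node 1
(.one 18442507108)
(.one 11529176140)))
(.node 2
(.node 1
(.one 18491647053)
(.one 18056537167))
(.node 1
(.one 15992374216)
(.one 12402885482))))
(.node 4
(.node 2
(.node 1
(.one 16228094968)
(.one 1397040055))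
(.node 1
(.one 15087252120)
(.one 12115936340)))
(.node 2
(.node 1
(.one 18610295774)
(.one 18626445378))
(.node 1
(.one 1413842007)
(.one 18675880601)))))))
(.node 30
(.node 15
(.node 7
(.node 3
(.node 1
(.one 18508104758)
(.node 1
(.one 18694087696)
(.one 18723726427)))
(.node 2
(.node 1
(.one 18778285149)
(.one 18794074997))
(.node 1
(.one 11361354803)
(.one 17233970273))))
(.node 4
(.node 2
(.node 1
(.one 18843382882)
(.one 16978899651))
(.node 1
(.one 18878972918)
(.one 18894054369)))
(.node 2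
(.node 1
(.one 18912240371)
(.one 1464243304))
(.node 1
(.one 18962043900)
(.one 18975392575)))))
(.node 7
(.node 3
(.node 1
(.one 11044050028)
(.node 1
(.one 19063567470)
(.one 19097129815)))
(.node 2
(.node 1
(.one 19130692254)
(.one 19164255269))
(.node 1
(.one 11731706999)
(.one 14080721648))))
(.node 4
(.node 2
(.node 1
(.one 19197768595)
(.one 1513145465))
(.node 1
(.one 19248149626)
(.one 11308217220)))
(.node 2
(.node 1
(.one 19280237692)
(.one 19297718969))
(.node 1
(.one 17348019137)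
(.one 19332068363))))))
(.node 15
(.node 7
(.node 3
(.node 1
(.one 1547781249)
(.node 1
(.one 19382411937)
(.one 15657436275)))
(.node 2
(.node 1
(.one 13827228804)
(.one 19411620819))
(.node 1
(.one 16345752403)
(.one 18826785772))))
(.node 4
(.node 2
(.node 1
(.one 15489958909)
(.one 14095614977))
(.node 1
(.one 14965662855)
(.one 19499881608)))
(.node 2
(.node 1
(.one 12804993917)
(.one 18072785706))
(.node 1
(.one 1580114927)
(.one 19512320862)))))
(.node 8
(.node 4
(.node 2
(.node 1
(.one 19550225509)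
(.one 16010241141))
(.node 1
(.one 16846951523)
(.one 19583112320)))
(.node 2
(.node 1
(.one 11278181507)
(.one 19617350475))
(.node 1
(.one 1614582472)
(.one 18006745765))))
(.node 4
(.node 2
(.node 1
(.one 19667694511)
(.one 14800388829))
(.node 1
(.one 1631904917)
(.one 16411677350)))
(.node 2
(.node 1
(.one 14113481851)
(.one 10792223531))
(.node 1
(.one 19700999288)
(.one 19399279767))))))))
(.node 61
(.node 30
(.node 15
(.node 7
(.node 3
(.node 1
(.one 10774750111)
(.node 1
(.one 1665766142)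
(.one 19767702269)))
(.node 2
(.node 1
(.one 19801945193)
(.one 1681105718))
(.node 1
(.one 18556015708)
(.one 11228636077))))
(.node 4
(.node 2
(.node 1
(.one 11780505643)
(.one 19179791037))
(.node 1
(.one 11513652381)
(.one 18190873306)))
(.node 2
(.node 1
(.one 13409838100)
(.one 12336104607))
(.node 1
(.one 12317127339)
(.one 12065989793)))))
(.node 7
(.node 3
(.node 1
(.one 19902279758)
(.node 1
(.one 19936019619)
(.one 19952047166)))
(.node 2
(.node 1
(.one 20003320998)
(.one 3825746091))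
(.node 1
(.one 2622137513)
(.one 20087227563))))
(.node 4
(.node 2
(.node 1
(.one 20120789256)
(.one 20171134128))
(.node 1
(.one 20204696743)
(.one 20238258184)))
(.node 2
(.node 1
(.one 20288603319)
(.one 20322164851))
(.node 1
(.one 20372509884)
(.one 20385058968))))))
(.node 15
(.node 7
(.node 3
(.node 1
(.one 20418610368)
(.node 1
(.one 1783379138)
(.one 20489979048)))
(.node 2
(.node 1
(.one 20523517126)
(.one 4044345356))
(.node 1
(.one 20557055176)
(.one 20586083530))))
(.node 4
(.node 2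
(.node 1
(.one 20641010892)
(.one 20066345187))
(.node 1
(.one 3561817295)
(.one 20707960017)))
(.node 2
(.node 1
(.one 20737082579)
(.one 20792042709))
(.node 1
(.one 20842386648)
(.one 20892730587)))))
(.node 8
(.node 4
(.node 2
(.node 1
(.one 1812754641)
(.one 2387473630))
(.node 1
(.one 2857243872)
(.one 20993417424)))
(.node 2
(.node 1
(.one 21043762404)
(.one 1833862375))
(.node 1
(.one 3964552425)
(.one 21144450282))))
(.node 4
(.node 2
(.node 1
(.one 21173302509)
(.one 21206852847))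
(.node 1
(.one 2186224881)
(.one 21278699706)))
(.node 2
(.node 1
(.one 21329044725)
(.one 3188490249))
(.node 1
(.one 4400841903)
(.one 21396169977)))))))
(.node 30
(.node 15
(.node 7
(.node 3
(.node 1
(.one 21446513916)
(.node 1
(.one 19969840325)
(.one 21480075391)))
(.node 2
(.node 1
(.one 1863282948)
(.one 21513639082))
(.node 1
(.one 21563983107)
(.one 21597544681))))
(.node 4
(.node 2
(.node 1
(.one 21630969096)
(.one 21647790339))
(.node 1
(.one 21681341707)
(.one 1884349709)))
(.node 2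
(.node 1
(.one 21731783879)
(.one 21765357736))
(.node 1
(.one 21798880530)
(.one 2970031380)))))
(.node 7
(.node 3
(.node 1
(.one 21844501781)
(.node 1
(.one 21882827008)
(.one 21911512345)))
(.node 2
(.node 1
(.one 4446729499)
(.one 20456789276))
(.node 1
(.one 1917576478)
(.one 22017077517))))
(.node 4
(.node 2
(.node 1
(.one 22046065953)
(.one 20960134435))
(.node 1
(.one 22113305893)
(.one 21429912871)))
(.node 2
(.node 1
(.one 22201673001)
(.one 1934808364))
(.node 1
(.one 22247448846)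
(.one 22268777729))))))
(.node 15
(.node 7
(.node 3
(.node 1
(.one 22319142192)
(.node 1
(.one 4015150387)
(.one 22364505396)))
(.node 2
(.node 1
(.one 22419830070)
(.one 22470174009))
(.node 1
(.one 20686947644)
(.one 22516122941))))
(.node 4
(.node 2
(.node 1
(.one 22549058879)
(.one 22604424513))
(.node 1
(.one 3478410564)
(.one 21811462322)))
(.node 2
(.node 1
(.one 22666532166)
(.one 22705112279))
(.node 1
(.one 22733616458)
(.one 21525652812)))))
(.node 8
(.node 4
(.node 2
(.node 1
(.one 20305995085)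
(.one 22822581508))
(.node 1
(.one 20720584017)
(.one 22486783186)))
(.node 2
(.node 1
(.one 22872924294)
(.one 22906486975))
(.node 1
(.one 4501677358)
(.one 22940049559))))
(.node 4
(.node 2
(.node 1
(.one 2002097496)
(.one 3780486316))
(.node 1
(.one 23023956132)
(.one 23052608861)))
(.node 2
(.node 1
(.one 3221747039)
(.one 23107786080))
(.node 1
(.one 23141037410)
(.one 23174988973)))))))))

/-- links -/
def nx3 : Tree :=
(.node 121
(.node 60
(.node 30
(.node 15
(.node 7
(.node 3
(.node 1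
(.one 23191758127)
(.node 1
(.one 23225333011)
(.one 23258854761)))
(.node 2
(.node 1
(.one 21894763883)
(.one 2941699340))
(.node 1
(.one 22285837677)
(.one 4480016502))))
(.node 4
(.node 2
(.node 1
(.one 23376364911)
(.one 2052530407))
(.node 1
(.one 23426708654)
(.one 3747046773)))
(.node 2
(.node 1
(.one 4418143607)
(.one 23505629414))
(.node 1
(.one 23544176839)
(.one 2069353852)))))
(.node 7
(.node 3
(.node 1
(.one 23589274827)
(.node 1
(.one 23644865919)
(.one 20020482206)))
(.node 2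
(.node 1
(.one 23678427376)
(.one 21614843268))
(.node 1
(.one 23745344902)
(.one 23773926792))))
(.node 4
(.node 2
(.node 1
(.one 23812678846)
(.one 2102969600))
(.node 1
(.one 22386627761)
(.one 23896585614)))
(.node 2
(.node 1
(.one 23946929553)
(.one 23980492031))
(.node 1
(.one 2118989206)
(.one 24030835890))))))
(.node 15
(.node 7
(.node 3
(.node 1
(.one 24081180057)
(.node 1
(.one 24109385116)
(.one 24131285213)))
(.node 2
(.node 1
(.one 24164484511)
(.one 24198092193))
(.node 1
(.one 24248993187)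
(.one 20507682063))))
(.node 4
(.node 2
(.node 1
(.one 2148073478)
(.one 24299335817))
(.node 1
(.one 2556077481)
(.one 24349421804)))
(.node 2
(.node 1
(.one 24361422853)
(.one 2170217901))
(.node 1
(.one 24433587379)
(.one 24450298048)))))
(.node 7
(.node 3
(.node 1
(.one 24500712882)
(.node 1
(.one 24512188555)
(.one 24546018742)))
(.node 2
(.node 1
(.one 24584619188)
(.one 24013370810))
(.node 1
(.one 24617611393)
(.one 23091439036))))
(.node 4
(.node 2
(.node 1
(.one 24663045565)
(.one 24684609682))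
(.node 1
(.one 20356792493)
(.one 3210487233)))
(.node 2
(.node 1
(.one 24769212645)
(.one 24802776360))
(.node 1
(.one 2220651859)
(.one 24853120181)))))))
(.node 30
(.node 15
(.node 7
(.node 3
(.node 1
(.one 24864866499)
(.node 1
(.one 23929353554)
(.one 2236294603)))
(.node 2
(.node 1
(.one 3462186166)
(.one 24935839181))
(.node 1
(.one 22683350479)
(.one 24981824976))))
(.node 4
(.node 2
(.node 1
(.one 25037714898)
(.one 24064644323))
(.node 1
(.one 3260007894)
(.one 21061030081)))
(.node 2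
(.node 1
(.one 24315675839)
(.one 25104838845))
(.node 1
(.one 19987645881)
(.one 25138401429)))))
(.node 7
(.node 3
(.node 1
(.one 2271065512)
(.node 1
(.one 25188746424)
(.one 25200058530)))
(.node 2
(.node 1
(.one 23007725023)
(.one 22503151073))
(.node 1
(.one 25272591783)
(.one 22068139491))))
(.node 4
(.node 2
(.node 1
(.one 2287879438)
(.one 25339778233))
(.node 1
(.one 25356547479)
(.one 20474402280)))
(.node 2
(.node 1
(.one 25406870781)
(.one 3328095596))
(.node 1
(.one 21246170604)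
(.one 2321249774))))))
(.node 15
(.node 7
(.node 3
(.node 1
(.one 3159155898)
(.node 1
(.one 22235026927)
(.one 22638695920)))
(.node 2
(.node 1
(.one 25556641266)
(.one 25087628788))
(.node 1
(.one 4115473909)
(.one 2338289142))))
(.node 4
(.node 2
(.node 1
(.one 22218581179)
(.one 22923924956))
(.node 1
(.one 25658623266)
(.one 25675375990)))
(.node 2
(.node 1
(.one 25703269883)
(.one 3008275965))
(.node 1
(.one 25759310035)
(.one 25792873929)))))
(.node 8
(.node 4
(.node 2
(.node 1
(.one 25808368872)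
(.one 25843216604))
(.node 1
(.one 2371905029)
(.one 25910342845)))
(.node 2
(.node 1
(.one 25921884386)
(.one 25942689179))
(.node 1
(.one 25971799563)
(.one 4312409613))))
(.node 4
(.node 2
(.node 1
(.one 26011030870)
(.one 22135502314))
(.node 1
(.one 26044040519)
(.one 21827745297)))
(.node 2
(.node 1
(.one 26094936303)
(.one 2421491135))
(.node 1
(.one 22838871252)
(.one 24333337923))))))))
(.node 61
(.node 30
(.node 15
(.node 7
(.node 3
(.node 1
(.one 26127824327)
(.node 1
(.one 2439083542)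
(.one 26173056446)))
(.node 2
(.node 1
(.one 26229188121)
(.one 20256253414))
(.node 1
(.one 26279532060)
(.one 25255380286))))
(.node 4
(.node 2
(.node 1
(.one 24266151147)
(.one 26313094583))
(.node 1
(.one 2472678874)
(.one 25720225972)))
(.node 2
(.node 1
(.one 22437574178)
(.one 26413782564))
(.node 1
(.one 26447345113)
(.one 2483729961)))))
(.node 7
(.node 3
(.node 1
(.one 26497688769)
(.node 1
(.one 26531251562)
(.one 26558948910)))
(.node 2
(.node 1
(.one 26576164195)
(.one 20674917937))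
(.node 1
(.one 26630772274)
(.one 26245834292))))
(.node 4
(.node 2
(.node 1
(.one 24383055291)
(.one 21380683111))
(.node 1
(.one 24601912807)
(.one 2517464492)))
(.node 2
(.node 1
(.one 23578506435)
(.one 21157017144))
(.node 1
(.one 26732467662)
(.one 26748686469))))))
(.node 15
(.node 7
(.node 3
(.node 1
(.one 2539898427)
(.node 1
(.one 26798281924)
(.one 26647283230)))
(.node 2
(.node 1
(.one 26810856956)
(.one 26827395288))
(.node 1
(.one 26883659328)
(.one 26899555697))))
(.node 4
(.node 2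
(.node 1
(.one 20624549403)
(.one 25507206724))
(.node 1
(.one 26949092933)
(.one 25283896545)))
(.node 2
(.node 1
(.one 26984347109)
(.one 26999666129))
(.node 1
(.one 27017643271)
(.one 2590290181)))))
(.node 8
(.node 4
(.node 2
(.node 1
(.one 27050730987)
(.one 27062284495))
(.node 1
(.one 3043292750)
(.one 27152160336)))
(.node 2
(.node 1
(.one 27185722713)
(.one 20860503637))
(.node 1
(.one 22756517125)
(.one 27219252620))))
(.node 4
(.node 2
(.node 1
(.one 2639382103)
(.one 27269617240))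
(.node 1
(.one 20569515390)
(.one 27301910106)))
(.node 2
(.node 1
(.one 27319276761)
(.one 25602684341))
(.node 1
(.one 27331110391)
(.one 2673866334)))))))
(.node 30
(.node 15
(.node 7
(.node 3
(.node 1
(.one 27387098313)
(.node 1
(.one 3423483489)
(.one 27414627782)))
(.node 2
(.node 1
(.one 24719537493)
(.one 26928420315))
(.node 1
(.one 23964430534)
(.one 22771695804))))
(.node 4
(.node 2
(.node 1
(.one 23471986276)
(.one 27504567909))
(.node 1
(.one 21715740024)
(.one 26262136119)))
(.node 2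
(.node 1
(.one 2702198238)
(.one 27515327838))
(.node 1
(.one 4083586632)
(.one 24400797954)))))
(.node 7
(.node 3
(.node 1
(.one 25153959494)
(.node 1
(.one 27571095133)
(.one 20541257312)))
(.node 2
(.node 1
(.one 27605255504)
(.one 2740700389))
(.node 1
(.one 26195977421)
(.one 27655599524))))
(.node 4
(.node 2
(.node 1
(.one 23325435127)
(.one 2757965425))
(.node 1
(.one 24780653774)
(.one 22789367385)))
(.node 2
(.node 1
(.one 20155897144)
(.one 27688937046))
(.node 1
(.one 27403961971)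
(.one 20138505624))))))
(.node 15
(.node 7
(.node 3
(.node 1
(.one 2791789841)
(.node 1
(.one 27755685136)
(.one 27789850187)))
(.node 2
(.node 1
(.one 2807305536)
(.one 3607791167))
(.node 1
(.one 27201418461)
(.one 20659220694))))
(.node 4
(.node 2
(.node 1
(.one 3093378292)
(.one 3530003967))
(.node 1
(.one 3362240122)
(.one 21111080572)))
(.node 2
(.node 1
(.one 27873443985)
(.one 3731187326))
(.node 1
(.one 27906496035)
(.one 20777010607)))))
(.node 8
(.node 4
(.node 2
(.node 1
(.one 27721459284)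
(.one 22404404675))
(.node 1
(.one 23158781552)
(.one 27972552322)))
(.node 2
(.node 1
(.one 2891142788)
(.one 3792756985))
(.node 1
(.one 25642243717)
(.one 28023840891))))
(.node 4
(.node 2
(.node 1
(.one 2903422472)
(.one 21297132910))
(.node 1
(.one 28056970458)
(.one 23494955144)))
(.node 2
(.node 1
(.one 2925373066)
(.one 23360746704))
(.node 1
(.one 26698106508)
(.one 27555030351)))))))))

/-- links -/
def nx4 : Tree :=
(.node 121
(.node 60
(.node 30
(.node 15
(.node 7
(.node 3
(.node 1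
(.one 27889922272)
(.node 1
(.one 25451763065)
(.one 4133213837)))
(.node 2
(.node 1
(.one 21078787726)
(.one 22889039499))
(.node 1
(.one 26145384061)
(.one 25015559823))))
(.node 4
(.node 2
(.node 1
(.one 22001817232)
(.one 26458539477))
(.node 1
(.one 21027057829)
(.one 26379683042)))
(.node 2
(.node 1
(.one 22184531602)
(.one 23438505457))
(.node 1
(.one 28242019957)
(.one 27839972906)))))
(.node 7
(.node 3
(.node 1
(.one 25055191188)
(.node 1
(.one 25390825718)
(.one 25071079620)))
(.node 2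
(.node 1
(.one 28274926838)
(.one 26967893206))
(.node 1
(.one 27487483399)
(.one 24696837371))))
(.node 4
(.node 2
(.node 1
(.one 27536402071)
(.one 24835266200))
(.node 1
(.one 3058750932)
(.one 28343633236)))
(.node 2
(.node 1
(.one 26026686062)
(.one 23997859059))
(.node 1
(.one 25875944757)
(.one 3110086035))))))
(.node 15
(.node 7
(.node 3
(.node 1
(.one 27431511280)
(.node 1
(.one 24468108954)
(.one 26363938176)))
(.node 2
(.node 1
(.one 22806939196)
(.one 23209010845))
(.node 1
(.one 3144054232)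
(.one 28192384220))))
(.node 4
(.node 2
(.node 1
(.one 28425627254)
(.one 27637442007))
(.node 1
(.one 4167698079)
(.one 26508780946)))
(.node 2
(.node 1
(.one 21967115748)
(.one 23628408447))
(.node 1
(.one 27856585964)
(.one 21498565990)))))
(.node 7
(.node 3
(.node 1
(.one 20809602696)
(.node 1
(.one 21095916971)
(.one 3496621466)))
(.node 2
(.node 1
(.one 21363299776)
(.one 24820471460))
(.node 1
(.one 28309116582)
(.one 28572390994))))
(.node 4
(.node 2
(.node 1
(.one 27822198986)
(.one 21312398598))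
(.node 1
(.one 25960125786)
(.one 3897595103)))
(.node 2
(.node 1
(.one 20273862312)
(.one 26296534437))
(.node 1
(.one 3276658346)
(.one 28645269646)))))))
(.node 30
(.node 15
(.node 7
(.node 3
(.node 1
(.one 23723792044)
(.node 1
(.one 24148919981)
(.one 28460922360)))
(.node 2
(.node 1
(.one 27923866882)
(.one 26211029197))
(.node 1
(.one 3312117115)
(.one 28706726106))))
(.node 4
(.node 2
(.node 1
(.one 25826711216)
(.one 28224353528))
(.node 1
(.one 26682774906)
(.one 27134292138)))
(.node 2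
(.node 1
(.one 28744803659)
(.one 3848439474))
(.node 1
(.one 20609172933)
(.one 28511516154)))))
(.node 7
(.node 3
(.node 1
(.one 3377464865)
(.node 1
(.one 24411854407)
(.one 27112810151)))
(.node 2
(.node 1
(.one 25441289751)
(.one 20944975441))
(.node 1
(.one 22151689826)
(.one 21347357994))))
(.node 4
(.node 2
(.node 1
(.one 28488672603)
(.one 26614105598))
(.node 1
(.one 3412448794)
(.one 27251471694)))
(.node 2
(.node 1
(.one 27168978150)
(.one 23712118287))
(.node 1
(.one 24042595850)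
(.one 28807529928))))))
(.node 15
(.node 7
(.node 3
(.node 1
(.one 28073567852)
(.node 1
(.one 22721836721)
(.one 23040312936)))
(.node 2
(.node 1
(.one 25368245821)
(.one 27767150262))
(.node 1
(.one 28846519778)
(.one 28857812535))))
(.node 4
(.node 2
(.node 1
(.one 20977387046)
(.one 20340315531))
(.node 1
(.one 22168454735)
(.one 27956852409)))
(.node 2
(.node 1
(.one 20407543339)
(.one 28896912999))
(.node 1
(.one 3580421752)
(.one 21951649149)))))
(.node 8
(.node 4
(.node 2
(.node 1
(.one 21190501987)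
(.one 24096970168))
(.node 1
(.one 26714330350)
(.one 20217521665)))
(.node 2
(.node 1
(.one 28908029300)
(.one 21581104789))
(.node 1
(.one 22100756142)
(.one 21983555700))))
(.node 4
(.node 2
(.node 1
(.one 20439814275)
(.one 21458949820))
(.node 1
(.one 23293752724)
(.one 23612479121)))
(.node 2
(.node 1
(.one 3647514287)
(.one 28941620838))
(.node 1
(.one 22656312848)
(.one 24735843607))))))))
(.node 61
(.node 30
(.node 15
(.node 7
(.node 3
(.node 1
(.one 28694127910)
(.node 1
(.one 26766050647)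
(.one 23846131323)))
(.node 2
(.node 1
(.one 3681183134)
(.one 26161411314))
(.node 1
(.one 24953747105)
(.one 3696494271))))
(.node 4
(.node 2
(.node 1
(.one 23410327682)
(.one 20877546783))
(.node 1
(.one 27470374586)
(.one 20188411584)))
(.node 2
(.node 1
(.one 23863756409)
(.one 24898307703))
(.node 1
(.one 27991232632)
(.one 28878567043)))))
(.node 7
(.node 3
(.node 1
(.one 24635479393)
(.node 1
(.one 28041811509)
(.one 29031616713)))
(.node 2
(.node 1
(.one 22303975107)
(.one 29064086850))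
(.node 1
(.one 28090732720)
(.one 20106028731))))
(.node 4
(.node 2
(.node 1
(.one 22973843060)
(.one 29048378945))
(.node 1
(.one 28729181554)
(.one 29081634214)))
(.node 2
(.node 1
(.one 3865630189)
(.one 28622947786))
(.node 1
(.one 24214722079)
(.one 28409283834))))))
(.node 15
(.node 7
(.node 3
(.node 1
(.one 24182023482)
(.node 1
(.one 28476937544)
(.one 3915433546)))
(.node 2
(.node 1
(.one 25691731518)
(.one 28930839957))
(.node 1
(.one 25892886205)
(.one 24562918813))))
(.node 4
(.node 2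
(.node 1
(.one 3947607439)
(.one 24747378205))
(.node 1
(.one 22035387897)
(.one 28981310980)))
(.node 2
(.node 1
(.one 25239246078)
(.one 20759725385))
(.node 1
(.one 29098448450)
(.one 24529262112)))))
(.node 8
(.node 4
(.node 2
(.node 1
(.one 21129479877)
(.one 26866574641))
(.node 1
(.one 28662277511)
(.one 23695926537)))
(.node 2
(.node 1
(.one 3998700931)
(.one 20826903938))
(.node 1
(.one 24283707063)
(.one 23763637889))))
(.node 4
(.node 2
(.node 1
(.one 25591636215)
(.one 4351833799))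
(.node 1
(.one 25994948619)
(.one 4065605075)))
(.node 2
(.node 1
(.one 28595205597)
(.one 23829276274))
(.node 1
(.one 28174487794)
(.one 28292907262)))))))
(.node 30
(.node 15
(.node 7
(.node 3
(.node 1
(.one 28762428868)
(.node 1
(.one 29114357002)
(.one 20038977152)))
(.node 2
(.node 1
(.one 25489827484)
(.one 22622307917))
(.node 1
(.one 28778931788)
(.one 20910687915))))
(.node 4
(.node 2
(.node 1
(.one 23561094790)
(.one 4182976009))
(.node 1
(.one 29130552872)
(.one 29147960879)))
(.node 2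
(.node 1
(.one 4217239242)
(.one 26781939306))
(.node 1
(.one 4250609302)
(.one 28119656120)))))
(.node 7
(.node 3
(.node 1
(.one 25474056332)
(.node 1
(.one 28394153261)
(.one 28007851680)))
(.node 2
(.node 1
(.one 4285314328)
(.one 23241967149))
(.node 1
(.one 4335617740)
(.one 29216211101))))
(.node 4
(.node 2
(.node 1
(.one 26597287280)
(.one 23343523395))
(.node 1
(.one 26429568677)
(.one 23455618723)))
(.node 2
(.node 1
(.one 21229270387)
(.one 23309948210))
(.node 1
(.one 24915256889)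
(.one 28142437865))))))
(.node 15
(.node 7
(.node 3
(.node 1
(.one 28107634329)
(.node 1
(.one 21781919080)
(.one 4519777887)))
(.node 2
(.node 1
(.one 26060166422)
(.one 22956867705))
(.node 1
(.one 25525231839)
(.one 10286972928))))
(.node 4
(.node 2
(.node 1
(.one 6577889615)
(.one 5392622176))
(.node 1
(.one 29266604459)
(.one 10169258556)))
(.node 2
(.node 1
(.one 29277655357)
(.one 29311207122))
(.node 1
(.one 4570568404)
(.one 9184290518)))))
(.node 8
(.node 4
(.node 2
(.node 1
(.one 6779699221)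
(.one 29395515095))
(.node 1
(.one 29428356825)
(.one 29484762843)))
(.node 2
(.node 1
(.one 9161826695)
(.one 6310020830))
(.node 1
(.one 29529024223)
(.one 29585450721))))
(.node 4
(.node 2
(.node 1
(.one 29635794660)
(.one 29686138599))
(.node 1
(.one 4598444405)
(.one 5157855766)))
(.node 2
(.node 1
(.one 5610850027)
(.one 29770043764))
(.node 1
(.one 29803606471)
(.one 4621013503)))))))))

/-- links -/
def nx5 : Tree :=
(.node 121
(.node 60
(.node 30
(.node 15
(.node 7
(.node 3
(.node 1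
(.one 29832102395)
(.node 1
(.one 10033911539)
(.one 4967933684)))
(.node 2
(.node 1
(.one 29882151262)
(.one 8944183030))
(.node 1
(.one 5940625426)
(.one 7137621712))))
(.node 4
(.node 2
(.node 1
(.one 29971420920)
(.one 30021764859))
(.node 1
(.one 30055327438)
(.one 10185778944)))
(.node 2
(.node 1
(.one 30083469709)
(.one 10140713435))
(.node 1
(.one 30105616806)
(.one 30116958756)))))
(.node 7
(.node 3
(.node 1
(.one 4671428356)
(.node 1
(.one 7182086683)
(.one 29350721286)))
(.node 2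
(.node 1
(.one 30223139248)
(.one 30250796810))
(.node 1
(.one 29736616371)
(.one 30301259533))))
(.node 4
(.node 2
(.node 1
(.one 29999649229)
(.one 30335190799))
(.node 1
(.one 4721813265)
(.one 30385070513)))
(.node 2
(.node 1
(.one 10325391102)
(.one 8675987485))
(.node 1
(.one 6751835924)
(.one 30435026709))))))
(.node 15
(.node 7
(.node 3
(.node 1
(.one 30474859051)
(.node 1
(.one 30502745881)
(.one 30518915631)))
(.node 2
(.node 1
(.one 30575548188)
(.one 6231820063))
(.node 1
(.one 8591128353)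
(.one 30659454691))))
(.node 4
(.node 2
(.node 1
(.one 30686697252)
(.one 30065936166))
(.node 1
(.one 7473366823)
(.one 10375827946)))
(.node 2
(.node 1
(.one 29512517418)
(.one 30810485036))
(.node 1
(.one 7238366995)
(.one 9453097276)))))
(.node 7
(.node 3
(.node 1
(.one 4783649304)
(.node 1
(.one 6533866018)
(.one 30877610313)))
(.node 2
(.node 1
(.one 9866387966)
(.one 5973890865))
(.node 1
(.one 10241602071)
(.one 30927750962))))
(.node 4
(.node 2
(.node 1
(.one 30944731751)
(.one 30978298332))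
(.node 1
(.one 31011837751)
(.one 8071018297)))
(.node 2
(.node 1
(.one 5689321219)
(.one 31078987578))
(.node 1
(.one 31112550095)
(.one 6500380706)))))))
(.node 30
(.node 15
(.node 7
(.node 3
(.node 1
(.one 7154702144)
(.node 1
(.one 31173489034)
(.one 31190876523)))
(.node 2
(.node 1
(.one 4856239940)
(.one 31240365786))
(.node 1
(.one 31297144647)
(.one 7971570269))))
(.node 4
(.node 2
(.node 1
(.one 9989965642)
(.one 31341127499))
(.node 1
(.one 31381049793)
(.one 4884582994)))
(.node 2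
(.node 1
(.one 8765376335)
(.one 9587468113))
(.node 1
(.one 31481737809)
(.one 4906152409)))))
(.node 7
(.node 3
(.node 1
(.one 31532083029)
(.node 1
(.one 31559149400)
(.one 9251795329)))
(.node 2
(.node 1
(.one 31582073411)
(.one 31610247003))
(.node 1
(.one 31666333533)
(.one 29362344485))))
(.node 4
(.node 2
(.node 1
(.one 4933767183)
(.one 31699894575))
(.node 1
(.one 5326124898)
(.one 31750066576)))
(.node 2
(.node 1
(.one 31760846862)
(.one 4957042534))
(.node 1
(.one 31811973476)
(.one 8631265129))))))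
(.node 15
(.node 7
(.node 3
(.node 1
(.one 31861285168)
(.node 1
(.one 7719143276)
(.one 31918051949)))
(.node 2
(.node 1
(.one 8983594863)
(.one 31961814896))
(.node 1
(.one 10353496375)
(.one 7524000081))))
(.node 4
(.node 2
(.node 1
(.one 5963728755)
(.one 32052302217))
(.node 1
(.one 5001631532)
(.one 32063726096)))
(.node 2
(.node 1
(.one 32079737191)
(.one 31447705387))
(.node 1
(.one 5018871673)
(.one 6209716846)))))
(.node 8
(.node 4
(.node 2
(.node 1
(.one 32130602874)
(.one 30636431228))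
(.node 1
(.one 32179931005)
(.one 32236898175)))
(.node 2
(.node 1
(.one 31515485934)
(.one 6013564803))
(.node 1
(.one 31710963409)
(.one 32281411937))))
(.node 4
(.node 2
(.node 1
(.one 10403981166)
(.one 32320803130))
(.node 1
(.one 5057836897)
(.one 32371147376)))
(.node 2
(.node 1
(.one 30861206078)
(.one 30486103947))
(.node 1
(.one 32421443424)
(.one 7305947021))))))))
(.node 61
(.node 30
(.node 15
(.node 7
(.node 3
(.node 1
(.one 5074642693)
(.node 1
(.one 32465809445)
(.one 32488608212)))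
(.node 2
(.node 1
(.one 10303281041)
(.one 32522155772))
(.node 1
(.one 5912777149)
(.one 30374070163))))
(.node 4
(.node 2
(.node 1
(.one 30604068756)
(.one 32583903125))
(.node 1
(.one 30357471678)
(.one 30821799816)))
(.node 2
(.node 1
(.one 32622868235)
(.one 32639637311))
(.node 1
(.one 32649712201)
(.one 8849569655)))))
(.node 7
(.node 3
(.node 1
(.one 32684259057)
(.node 1
(.one 32701071744)
(.one 5141815877)))
(.node 2
(.node 1
(.one 32734851520)
(.one 32750879110))
(.node 1
(.one 32773158743)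
(.one 32784024132))))
(.node 4
(.node 2
(.node 1
(.one 7047772067)
(.one 32824244013))
(.node 1
(.one 7742314386)
(.one 32857436672)))
(.node 2
(.node 1
(.one 30776641248)
(.one 31733741342))
(.node 1
(.one 32890921453)
(.one 5208975273))))))
(.node 15
(.node 7
(.node 3
(.node 1
(.one 32934950769)
(.node 1
(.one 32975274502)
(.one 10454525839)))
(.node 2
(.node 1
(.one 33025619886)
(.one 32404367130))
(.node 1
(.one 33059181004)
(.one 5242566534))))
(.node 4
(.node 2
(.node 1
(.one 8490697048)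
(.one 33087025624))
(.node 1
(.one 33126307717)
(.one 33159870163)))
(.node 2
(.node 1
(.one 33193432888)
(.one 33220179899))
(.node 1
(.one 8038008627)
(.one 32991973954)))))
(.node 8
(.node 4
(.node 2
(.node 1
(.one 31783674472)
(.one 29955446581))
(.node 1
(.one 7843080080)
(.one 5286377317)))
(.node 2
(.node 1
(.one 31230523093)
(.one 29848285783))
(.node 1
(.one 33287817083)
(.one 33310425387))))
(.node 4
(.node 2
(.node 1
(.one 33326764646)
(.one 9704441776))
(.node 1
(.one 33337866138)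
(.one 33354408316)))
(.node 2
(.node 1
(.one 33388832709)
(.one 33411008316))
(.node 1
(.one 29462767533)
(.one 32555472840)))))))
(.node 30
(.node 15
(.node 7
(.node 3
(.node 1
(.one 33456281545)
(.node 1
(.one 32431666924)
(.one 33477814142)))
(.node 2
(.node 1
(.one 9034135297)
(.one 33489260995))
(.node 1
(.one 33505411443)
(.one 5796323826))))
(.node 4
(.node 2
(.node 1
(.one 33556535247)
(.one 33596183051))
(.node 1
(.one 29653410360)
(.one 30704345695)))
(.node 2
(.node 1
(.one 33612943949)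
(.one 5409630164))
(.node 1
(.one 29411784518)
(.one 33662478293)))))
(.node 7
(.node 3
(.node 1
(.one 33679640293)
(.node 1
(.one 8423491435)
(.one 33690341879)))
(.node 2
(.node 1
(.one 5438355417)
(.one 33747216088))
(.node 1
(.one 6175617589)
(.one 33757090279))))
(.node 4
(.node 2
(.node 1
(.one 32002396721)
(.one 33438648199))
(.node 1
(.one 31465435498)
(.one 30726254944)))
(.node 2
(.node 1
(.one 31139850206)
(.one 33847904223))
(.node 1
(.one 30156461889)
(.one 33008428823))))))
(.node 15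
(.node 7
(.node 3
(.node 1
(.one 5471105590)
(.node 1
(.one 33857786444)
(.one 6819820057)))
(.node 2
(.node 1
(.one 31801098661)
(.one 32336840650))
(.node 1
(.one 33914636248)
(.one 29384656859))))
(.node 4
(.node 2
(.node 1
(.one 8195564138)
(.one 5510723311))
(.node 1
(.one 8692999900)
(.one 33965373278)))
(.node 2
(.node 1
(.one 5521500137)
(.one 8155104989))
(.node 1
(.one 30743577145)
(.one 9279760152)))))
(.node 8
(.node 4
(.node 2
(.node 1
(.one 9856358355)
(.one 33998553638))
(.node 1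
(.one 34032497252)
(.one 5560715035)))
(.node 2
(.node 1
(.one 6359926724)
(.one 9536952041))
(.node 1
(.one 29502439802)
(.one 5840893685))))
(.node 4
(.node 2
(.node 1
(.one 6282990187)
(.one 6115222100))
(.node 1
(.one 8508277261)
(.one 6484211695)))
(.node 2
(.node 1
(.one 34099081656)
(.one 29569782292))
(.node 1
(.one 8748378066)
(.one 30458980213)))))))))

/-- links -/
def nx6 : Tree :=
(.node 121
(.node 60
(.node 30
(.node 15
(.node 7
(.node 3
(.node 1
(.one 7809349608)
(.node 1
(.one 34144178665)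
(.one 5644575240)))
(.node 2
(.node 1
(.one 6544888220)
(.one 32600461831))
(.node 1
(.one 5655558047)
(.one 29905338396))))
(.node 4
(.node 2
(.node 1
(.one 34177464038)
(.one 31163638062))
(.node 1
(.one 5678589943)
(.one 31062983092)))
(.node 2
(.node 1
(.one 33276717049)
(.one 33892239145))
(.node 1
(.one 34082455940)
(.one 7668586306)))))
(.node 7
(.node 3
(.node 1
(.one 6869682170)
(.node 1
(.one 29821290491)
(.one 9397585912)))
(.node 2
(.node 1
(.one 32908227040)
(.one 32213657596))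
(.node 1
(.one 30207371261)
(.one 8021051266))))
(.node 4
(.node 2
(.node 1
(.one 29781741898)
(.one 7926556397))
(.node 1
(.one 34345422879)
(.one 34065909687)))
(.node 2
(.node 1
(.one 32254128441)
(.one 32270315880))
(.node 1
(.one 34361680342)
(.one 8917096162))))))
(.node 15
(.node 7
(.node 3
(.node 1
(.one 33830916707)
(.node 1
(.one 31978821370)
(.one 33880359409)))
(.node 2
(.node 1
(.one 10107041794)
(.one 5812275073))
(.node 1
(.one 34418467376)
(.one 32840327754))))
(.node 4
(.node 2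
(.node 1
(.one 32717379350)
(.one 5863227963))
(.node 1
(.one 33773969861)
(.one 31834784260)))
(.node 2
(.node 1
(.one 7390385992)
(.one 30760886715))
(.node 1
(.one 30961842182)
(.one 5897066372)))))
(.node 7
(.node 3
(.node 1
(.one 34317620968)
(.node 1
(.one 34484361194)
(.one 33942200820)))
(.node 2
(.node 1
(.one 6903863304)
(.one 33170007890))
(.node 1
(.one 30189823886)
(.one 31280576496))))
(.node 4
(.node 2
(.node 1
(.one 8816092914)
(.one 30039648052))
(.node 1
(.one 29602695157)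
(.one 7625291620)))
(.node 2
(.node 1
(.one 6249563990)
(.one 29938268018))
(.node 1
(.one 8346036237)
(.one 34596083664)))))))
(.node 30
(.node 15
(.node 7
(.node 3
(.node 1
(.one 10006733166)
(.node 1
(.one 9738426158)
(.one 6646253290)))
(.node 2
(.node 1
(.one 10477438991)
(.one 33042540383))
(.node 1
(.one 6030268433)
(.one 34669879603))))
(.node 4
(.node 2
(.node 1
(.one 31307764309)
(.one 34513045399))
(.node 1
(.one 34116249343)
(.one 32957628785)))
(.node 2
(.node 1
(.one 6065043267)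
(.one 34696864126))
(.node 1
(.one 9336297493)
(.one 8110618359)))))
(.node 7
(.node 3
(.node 1
(.one 33254806000)
(.node 1
(.one 34736256805)
(.one 6601533463)))
(.node 2
(.node 1
(.one 29452304870)
(.one 34569553817))
(.node 1
(.one 6126118835)
(.one 33539155982))))
(.node 4
(.node 2
(.node 1
(.one 7652714410)
(.one 29720920577))
(.node 1
(.one 8144582620)
(.one 29915775460)))
(.node 2
(.node 1
(.one 34545919791)
(.one 6165465004))
(.node 1
(.one 9520027432)
(.one 33579427568))))))
(.node 15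
(.node 7
(.node 3
(.node 1
(.one 9805617061)
(.node 1
(.one 31492351905)
(.one 34199316454)))
(.node 2
(.node 1
(.one 30670837782)
(.one 8563677154))
(.node 1
(.one 32499230658)
(.one 34008945166))))
(.node 4
(.node 2
(.node 1
(.one 34787280780)
(.one 34797615039))
(.node 1
(.one 29748340660)
(.one 7507412814)))
(.node 2
(.node 1
(.one 30324049870)
(.one 8206583835))
(.node 1
(.one 29301098424)
(.one 34837641185)))))
(.node 8
(.node 4
(.node 2
(.node 1
(.one 6333380588)
(.one 30173935429))
(.node 1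
(.one 7584851933)
(.one 31543658349)))
(.node 2
(.node 1
(.one 34847835966)
(.one 7870711808))
(.node 1
(.one 30290159635)
(.one 29333860649))))
(.node 4
(.node 2
(.node 1
(.one 9950451742)
(.one 7558195027))
(.node 1
(.one 31264368638)
(.one 6400473108)))
(.node 2
(.node 1
(.one 10218919904)
(.one 30620780454))
(.node 1
(.one 32018874911)
(.one 34685740814))))))))
(.node 61
(.node 30
(.node 15
(.node 7
(.node 3
(.node 1
(.one 7423570483)
(.node 1
(.one 9302165486)
(.one 6434116135)))
(.node 2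
(.node 1
(.one 32924500426)
(.one 32147675146))
(.node 1
(.one 6449903647)
(.one 31096049960))))
(.node 4
(.node 2
(.node 1
(.one 29664433928)
(.one 33813923868))
(.node 1
(.one 10073737248)
(.one 31398320109)))
(.node 2
(.node 1
(.one 8792852459)
(.one 34819872755))
(.node 1
(.one 31935169122)
(.one 34166937533)))))
(.node 7
(.node 3
(.node 1
(.one 34932633965)
(.node 1
(.one 8883652643)
(.one 34971473693)))
(.node 2
(.node 1
(.one 34216309076)
(.one 29244803101))
(.node 1
(.one 34955420178)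
(.one 34714260014))))
(.node 4
(.node 2
(.node 1
(.one 34988761629)
(.one 6618587593))
(.node 1
(.one 34646636408)
(.one 31632353201)))
(.node 2
(.node 1
(.one 34467829497)
(.one 31593492988))
(.node 1
(.one 34535302946)
(.one 6668558874))))))
(.node 15
(.node 7
(.node 3
(.node 1
(.one 9822332867)
(.node 1
(.one 34871457620)
(.one 31895230297)))
(.node 2
(.node 1
(.one 6695937872)
(.one 32029357999))
(.node 1
(.one 30240933784)
(.one 34888341405))))
(.node 4
(.node 2
(.node 1
(.one 32382408445)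
(.one 29552662307))
(.node 1
(.one 35005568966)
(.one 31878354866)))
(.node 2
(.node 1
(.one 9061709861)
(.one 29619814982))
(.node 1
(.one 31683901465)
(.one 31331604466)))))
(.node 8
(.node 4
(.node 2
(.node 1
(.one 8413417882)
(.one 7081797671))
(.node 1
(.one 32807948308)
(.one 6802237312)))
(.node 2
(.node 1
(.one 34619733897)
(.one 34300113301))
(.node 1
(.one 34378969505)
(.one 34747688822))))
(.node 4
(.node 2
(.node 1
(.one 35021756162)
(.one 29234362353))
(.node 1
(.one 32538351621)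
(.one 30593054669)))
(.node 2
(.node 1
(.one 34764306380)
(.one 8967006226))
(.node 1
(.one 31213322792)
(.one 6914332576)))))))
(.node 30
(.node 15
(.node 7
(.node 3
(.node 1
(.one 9783367606)
(.node 1
(.one 35038570428)
(.one 7434598372)))
(.node 2
(.node 1
(.one 6987094017)
(.one 34244007962))
(.node 1
(.one 7702786353)
(.one 34452170514))))
(.node 4
(.node 2
(.node 1
(.one 8715606025)
(.one 7014904352))
(.node 1
(.one 30994986938)
(.one 7071744557)))
(.node 2
(.node 1
(.one 35056124226)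
(.one 7288710971))
(.node 1
(.one 31045912519)
(.one 33108869612)))))
(.node 7
(.node 3
(.node 1
(.one 31123474444)
(.node 1
(.one 29871294269)
(.one 32113350592)))
(.node 2
(.node 1
(.one 34267570681)
(.one 34227959811))
(.node 1
(.one 7959639862)
(.one 7256012762))))
(.node 4
(.node 2
(.node 1
(.one 7450943512)
(.one 9940640131))
(.node 1
(.one 34126636876)
(.one 34328532809)))
(.node 2
(.node 1
(.one 8648640502)
(.one 32454731687))
(.node 1
(.one 10275492217)
(.one 31023280610))))))
(.node 15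
(.node 7
(.node 3
(.node 1
(.one 30268503989)
(.node 1
(.one 9095049654)
(.one 7373619709)))
(.node 2
(.node 1
(.one 8464193386)
(.one 9151119826))
(.node 1
(.one 30889301864)
(.one 32874866439))))
(.node 4
(.node 2
(.node 1
(.one 33730045705)
(.one 32304333383))
(.node 1
(.one 9654712219)
(.one 33242855245)))
(.node 2
(.node 1
(.one 30139064727)
(.one 8261830412))
(.node 1
(.one 7574747160)
(.one 33930867203)))))
(.node 8
(.node 4
(.node 2
(.node 1
(.one 7635957713)
(.one 34401395291))
(.node 1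
(.one 33529296656)
(.one 34915268566)))
(.node 2
(.node 1
(.one 30794536889)
(.one 33982105392))
(.node 1
(.one 31951746987)
(.one 30419003294))))
(.node 4
(.node 2
(.node 1
(.one 9766496215)
(.one 35072206742))
(.node 1
(.one 30408335951)
(.one 9632618507)))
(.node 2
(.node 1
(.one 34585778147)
(.one 8373782503))
(.node 1
(.one 8312412094)
(.one 33142854186)))))))))

/-- links -/
def nx7 : Tree :=
(.node 121
(.node 60
(.node 30
(.node 15
(.node 7
(.node 3
(.node 1
(.one 29988263818)
(.node 1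
(.one 32203686234)
(.one 29703995790)))
(.node 2
(.node 1
(.one 9620787615)
(.one 31845136400))
(.node 1
(.one 9235372039)
(.one 34049430026))))
(.node 4
(.node 2
(.node 1
(.one 9470882160)
(.one 33712836933))
(.node 1
(.one 34284025756)
(.one 8246175656)))
(.node 2
(.node 1
(.one 33428727584)
(.one 30844762018))
(.node 1
(.one 30542546787)
(.one 33372014630)))))
(.node 7
(.node 3
(.node 1
(.one 32572192810)
(.node 1
(.one 8441419749)
(.one 33075894306)))
(.node 2
(.node 1
(.one 8530491228)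
(.one 32355030948))
(.node 1
(.one 30559049732)
(.one 31364896756))))
(.node 4
(.node 2
(.node 1
(.one 32164222923)
(.one 9353271143))
(.node 1
(.one 33796866474)
(.one 33646258209)))
(.node 2
(.node 1
(.one 33204664360)
(.one 31650206161))
(.node 1
(.one 33629685801)
(.one 9117983310))))))
(.node 15
(.node 7
(.node 3
(.node 1
(.one 9201389907)
(.node 1
(.one 34636558840)
(.one 34905162329)))
(.node 2
(.node 1
(.one 9431246847)
(.one 9688762202))
(.node 1
(.one 9905727348)
(.one 30912180703))))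
(.node 4
(.node 2
(.node 1
(.one 31431553373)
(.one 32102512577))
(.node 1
(.one 34502418845)
(.one 32673722944)))
(.node 2
(.node 1
(.one 15757448074)
(.one 14818698336))
(.node 1
(.one 12518907950)
(.one 35084747597)))))
(.node 7
(.node 3
(.node 1
(.one 15622165445)
(.node 1
(.one 10824566828)
(.one 35118027450)))
(.node 2
(.node 1
(.one 14582712366)
(.one 35173626841))
(.node 1
(.one 17792439414)
(.one 15773975523))))
(.node 4
(.node 2
(.node 1
(.one 35201905379)
(.one 15724262189))
(.node 1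
(.one 35223945306)
(.one 18458178420)))
(.node 2
(.node 1
(.one 10578253876)
(.one 12870988651))
(.node 1
(.one 16361992965)
(.one 18122401846)))))))
(.node 30
(.node 15
(.node 7
(.node 3
(.node 1
(.one 17485230879)
(.node 1
(.one 17585891383)
(.one 10607953026)))
(.node 2
(.node 1
(.one 17870672643)
(.one 15879862321))
(.node 1
(.one 14331285558)
(.one 12490860600))))
(.node 4
(.node 2
(.node 1
(.one 17702557753)
(.one 17255605115))
(.node 1
(.one 17165689727)
(.one 35370346555)))
(.node 2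
(.node 1
(.one 12000340029)
(.one 14263265342))
(.node 1
(.one 17956115618)
(.one 16695932991)))))
(.node 7
(.node 3
(.node 1
(.one 13145217088)
(.node 1
(.one 18323538917)
(.one 10673828712)))
(.node 2
(.node 1
(.one 12272804722)
(.one 15829566311))
(.node 1
(.one 18211943214)
(.one 18945517636))))
(.node 4
(.node 2
(.node 1
(.one 18929119320)
(.one 35521283225))
(.node 1
(.one 12239265851)
(.one 12838692935)))
(.node 2
(.node 1
(.one 35570545376)
(.one 19045556327))
(.node 1
(.one 10746112073)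
(.one 13643633578))))))
(.node 15
(.node 7
(.node 3
(.node 1
(.one 15573304353)
(.node 1
(.one 16461162571)
(.one 15192081534)))
(.node 2
(.node 1
(.one 17540900941)
(.one 14885470271))
(.node 1
(.one 35689644944)
(.one 35705271256))))
(.node 4
(.node 2
(.node 1
(.one 14617158804)
(.one 35738118225))
(.node 1
(.one 13190918829)
(.one 11798566995)))
(.node 2
(.node 1
(.one 35794535135)
(.one 10858263516))
(.node 1
(.one 16159560385)
(.one 35639661531)))))
(.node 8
(.node 4
(.node 2
(.node 1
(.one 10875483158)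
(.one 18407270486))
(.node 1
(.one 16026473572)
(.one 35672626129)))
(.node 2
(.node 1
(.one 11815422039)
(.one 17065837657))
(.node 1
(.one 35861660602)
(.one 19633599372))))
(.node 4
(.node 2
(.node 1
(.one 18475000851)
(.one 12973007914))
(.node 1
(.one 10930726965)
(.one 11748786959)))
(.node 2
(.node 1
(.one 19465607259)
(.one 35907142768))
(.node 1
(.one 19364958992)
(.one 18575816792))))))))
(.node 61
(.node 30
(.node 15
(.node 7
(.node 3
(.node 1
(.one 17637187660)
(.node 1
(.one 16815425606)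
(.one 35922699158)))
(.node 2
(.node 1
(.one 14487511997)
(.one 17972052695))
(.node 1
(.one 10993402770)
(.one 16747528978))))
(.node 4
(.node 2
(.node 1
(.one 35956716252)
(.one 18257601557))
(.node 1
(.one 18524816273)
(.one 12787005536)))
(.node 2
(.node 1
(.one 35995911251)
(.one 36012602194))
(.node 1
(.one 16731746385)
(.one 17088002108)))))
(.node 7
(.node 3
(.node 1
(.one 36040161362)
(.node 1
(.one 17503081550)
(.one 36079817502)))
(.node 2
(.node 1
(.one 11077424198)
(.one 19868816453))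
(.node 1
(.one 19531397223)
(.one 13710107620))))
(.node 4
(.node 2
(.node 1
(.one 35157084227)
(.one 13510018091))
(.node 1
(.one 11126251584)
(.one 35610072000)))
(.node 2
(.node 1
(.one 16193033124)
(.one 19649324008))
(.node 1
(.one 36141066333)
(.one 18591883987))))))
(.node 15
(.node 7
(.node 3
(.node 1
(.one 17669957739)
(.node 1
(.one 19733365874)
(.one 17117472876)))
(.node 2
(.node 1
(.one 17887245263)
(.one 36192457734))
(.node 1
(.one 14667376690)
(.one 36208554773))))
(.node 4
(.node 2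
(.node 1
(.one 11630912324)
(.one 16646485094))
(.node 1
(.one 19684414299)
(.one 18228863878)))
(.node 2
(.node 1
(.one 35420128172)
(.one 36226298778))
(.node 1
(.one 11244660848)
(.one 19229782857)))))
(.node 8
(.node 4
(.node 2
(.node 1
(.one 36259759229)
(.one 11948380258))
(.node 1
(.one 18021487417)
(.one 35761103745)))
(.node 2
(.node 1
(.one 35438183100)
(.one 35553682586))
(.node 1
(.one 35257656302)
(.one 18174056506))))
(.node 4
(.node 2
(.node 1
(.one 18373841817)
(.one 12558218089))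
(.node 1
(.one 19264419953)
(.one 13862331317)))
(.node 2
(.node 1
(.one 11346199506)
(.one 14348285080))
(.node 1
(.one 36331537502)
(.one 35458974599)))))))
(.node 30
(.node 15
(.node 7
(.node 3
(.node 1
(.one 14918288388)
(.node 1
(.one 15439063151)
(.one 36344058742)))
(.node 2
(.node 1
(.one 36360991665)
(.one 11400360959))
(.node 1
(.one 15137105061)
(.one 19885408977))))
(.node 4
(.node 2
(.node 1
(.one 11680729133)
(.one 12038144950))
(.node 1
(.one 11887154081)
(.one 14180352861)))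
(.node 2
(.node 1
(.one 12222657596)
(.one 16764637962))
(.node 1
(.one 35341707348)
(.one 13480867957)))))
(.node 7
(.node 3
(.node 1
(.one 36427232059)
(.node 1
(.one 12284080882)
(.one 17753994072)))
(.node 2
(.node 1
(.one 35140386869)
(.one 36460541092))
(.node 1
(.one 18111521542)
(.one 36129994879))))
(.node 4
(.node 2
(.node 1
(.one 16998958124)
(.one 13340710984))
(.node 1
(.one 12608410769)
(.one 16450513024)))
(.node 2
(.node 1
(.one 15036098686)
(.one 19000619826))
(.node 1
(.one 13598258128)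
(.one 36527824952))))))
(.node 15
(.node 7
(.node 3
(.node 1
(.one 36398613518)
(.node 1
(.one 35823939659)
(.one 17652957992)))
(.node 2
(.node 1
(.one 14554768459)
(.one 18140832688))
(.node 1
(.one 16494876720)
(.one 36293075779))))
(.node 4
(.node 2
(.node 1
(.one 15691217027)
(.one 11651990459))
(.node 1
(.one 18547749760)
(.one 19839255447)))
(.node 2
(.node 1
(.one 11698099081)
(.one 36275200791))
(.node 1
(.one 18643878741)
(.one 13057434601)))))
(.node 8
(.node 4
(.node 2
(.node 1
(.one 17922892557)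
(.one 35492557951))
(.node 1
(.one 17603897462)
(.one 36309173062)))
(.node 2
(.node 1
(.one 12637582439)
(.one 19783215180))
(.node 1
(.one 16098035802)
(.one 14449293355))))
(.node 4
(.node 2
(.node 1
(.one 35186320371)
(.one 19918719101))
(.node 1
(.one 12016957518)
(.one 15322380354)))
(.node 2
(.node 1
(.one 12385424333)
(.one 36059042911))
(.node 1
(.one 11832809604)
(.one 19080401609)))))))))

/-- links -/
def nx8 : Tree :=
(.node 121
(.node 60
(.node 30
(.node 15
(.node 7
(.node 3
(.node 1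
(.one 11853649007)
(.node 1
(.one 19430998741)
(.one 13778952292)))
(.node 2
(.node 1
(.one 19722097464)
(.one 11898844225))
(.node 1
(.one 13324788845)
(.one 13812368434))))
(.node 4
(.node 2
(.node 1
(.one 17837212818)
(.one 11933295729))
(.node 1
(.one 15124867137)
(.one 15389283486)))
(.node 2
(.node 1
(.one 35654509632)
(.one 16869700646))
(.node 1
(.one 16596137045)
(.one 14235653191)))))
(.node 7
(.node 3
(.node 1
(.one 19598858345)
(.node 1
(.one 16378266677)
(.one 13178893325)))
(.node 2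
(.node 1
(.one 35291173914)
(.one 13878638726))
(.node 1
(.one 16148505658)
(.one 12088510583))))
(.node 4
(.node 2
(.node 1
(.one 16081512522)
(.one 13256956018))
(.node 1
(.one 18710451282)
(.one 36627626053)))
(.node 2
(.node 1
(.one 13542786076)
(.one 35274274949))
(.node 1
(.one 12151542918)
(.one 15807132729))))))
(.node 15
(.node 7
(.node 3
(.node 1
(.one 35403655266)
(.node 1
(.one 36595975224)
(.one 13095027587)))
(.node 2
(.node 1
(.one 14936344697)
(.one 12184318839))
(.node 1
(.one 19017265948)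
(.one 35806463050))))
(.node 4
(.node 2
(.node 1
(.one 16920262776)
(.one 14431397003))
(.node 1
(.one 36612446331)
(.one 36444837992)))
(.node 2
(.node 1
(.one 18240668357)
(.one 19822559920))
(.node 1
(.one 19750279303)
(.one 16261665634)))))
(.node 7
(.node 3
(.node 1
(.one 19448370046)
(.node 1
(.one 12352819995)
(.one 36577416131)))
(.node 2
(.node 1
(.one 18748729445)
(.one 19319199791))
(.node 1
(.one 16512160590)
(.one 15405733994))))
(.node 4
(.node 2
(.node 1
(.one 12435129329)
(.one 35772077115))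
(.node 1
(.one 17155257391)
(.one 17435272282)))
(.node 2
(.node 1
(.one 19482752029)
(.one 17216469094))
(.node 1
(.one 14700237896)
(.one 17016284301)))))))
(.node 30
(.node 15
(.node 7
(.node 3
(.node 1
(.one 35622520954)
(.node 1
(.one 35975122989)
(.one 12541215753)))
(.node 2
(.node 1
(.one 19151698009)
(.one 17318470379))
(.node 1
(.one 36544594679)
(.one 19850905685))))
(.node 4
(.node 2
(.node 1
(.one 19214485555)
(.one 35891029130))
(.node 1
(.one 35387761687)
(.one 18290464878)))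
(.node 2
(.node 1
(.one 14604948510)
(.one 35589043064))
(.node 1
(.one 12653520991)
(.one 15371556000)))))
(.node 7
(.node 3
(.node 1
(.one 36645606540)
(.node 1
(.one 13106672629)
(.one 12721682562)))
(.node 2
(.node 1
(.one 36493554832)
(.one 14366028835))
(.node 1
(.one 12754097008)
(.one 35509228700))))
(.node 4
(.node 2
(.node 1
(.one 18815877950)
(.one 35537273923))
(.node 1
(.one 35106677692)
(.one 17300456595)))
(.node 2
(.node 1
(.one 36477469777)
(.one 13123026993))
(.node 1
(.one 15523377881)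
(.one 36409721813))))))
(.node 15
(.node 7
(.node 3
(.node 1
(.one 17368134799)
(.node 1
(.one 35878361187)
(.one 14733579016)))
(.node 2
(.node 1
(.one 13040513871)
(.one 14131164248))
(.node 1
(.one 14785123108)
(.one 16546145366))))
(.node 4
(.node 2
(.node 1
(.one 36029555647)
(.one 17184092233))
(.node 1
(.one 18341561236)
(.one 15259220062)))
(.node 2
(.node 1
(.one 36109382668)
(.one 35236754157))
(.node 1
(.one 13242033218)
(.one 13308023941)))))
(.node 8
(.node 4
(.node 2
(.node 1
(.one 36562387880)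
(.one 19347394653))
(.node 1
(.one 16568013979)
(.one 35722659940)))
(.node 2
(.node 1
(.one 35319333920)
(.one 15354684566))
(.node 1
(.one 19034101852)
(.one 35308053404))))
(.node 4
(.node 2
(.node 1
(.one 15237571623)
(.one 16630204531))
(.node 1
(.one 14045866100)
(.one 13984125992)))
(.node 2
(.node 1
(.one 18866438838)
(.one 16328323812))
(.node 1
(.one 15221445365)
(.one 18659628174))))))))
(.node 61
(.node 30
(.node 15
(.node 7
(.node 3
(.node 1
(.one 14873367577)
(.node 1
(.one 36381934426)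
(.one 36516058157)))
(.node 2
(.node 1
(.one 13912958059)
(.one 36175639658))
(.node 1
(.one 35475887184)
(.one 35358381050))))
(.node 4
(.node 2
(.node 1
(.one 36158411913)
(.one 14197655632))
(.node 1
(.one 35840804961)
(.one 16278058032)))
(.node 2
(.node 1
(.one 17385896060)
(.one 17267431533))
(.node 1
(.one 14990962757)
(.one 36091697288)))))
(.node 7
(.node 3
(.node 1
(.one 18761163555)
(.node 1
(.one 36243326068)
(.one 14755939227)))
(.node 2
(.node 1
(.one 14839702191)
(.one 19571151690))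
(.node 1
(.one 19118195622)
(.one 15069755521))))
(.node 4
(.node 2
(.node 1
(.one 15292921935)
(.one 16681243441))
(.node 1
(.one 35941643150)
(.one 16932516583)))
(.node 2
(.node 1
(.one 20054394213)
(.one 24233182564))
(.node 1
(.one 26347173179)
(.one 27034169557))))))
(.node 15
(.node 7
(.node 3
(.node 1
(.one 21263843454)
(.node 1
(.one 21749421726)
(.one 22453740962)))
(.node 2
(.node 1
(.one 23662913116)
(.one 25776826046))
(.node 1
(.one 27940558217)
(.one 29164294396))))
(.node 4
(.node 2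
(.node 1
(.one 28830057932)
(.one 26546501321))
(.node 1
(.one 29199222190)
(.one 27621569925)))
(.node 2
(.node 1
(.one 21866952210)
(.one 27369723168))
(.node 1
(.one 25860026511)
(.one 25122121416)))))
(.node 8
(.node 4
(.node 2
(.node 1
(.one 23075669425)
(.one 26396595712))
(.node 1
(.one 26664027530)
(.one 21697966324)))
(.node 2
(.node 1
(.one 25742681651)
(.one 22336833043))
(.node 1
(.one 28362446260)
(.one 25424152243))))
(.node 4
(.node 2
(.node 1
(.one 26076800450)
(.one 36681041395))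
(.node 1
(.one 28543517988)
(.one 24970090057)))
(.node 2
(.node 1
(.one 27672323420)
(.one 29014025819))
(.node 1
(.one 26329786050)
(.one 27285956289)))))))
(.node 30
(.node 15
(.node 7
(.node 3
(.node 1
(.one 22571705770)
(.node 1
(.one 28209620353)
(.one 23913599161)))
(.node 2
(.node 1
(.one 36665095817)
(.one 25305761300))
(.node 1
(.one 21548770925)
(.one 23527438027))))
(.node 4
(.node 2
(.node 1
(.one 27085336759)
(.one 23126111792))
(.node 1
(.one 27806836112)
(.one 26112124189)))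
(.node 2
(.node 1
(.one 28444373242)
(.one 24484849321))
(.node 1
(.one 23796823687)
(.one 20928000234)))))
(.node 7
(.node 3
(.node 1
(.one 22538604711)
(.node 1
(.one 27706273996)
(.one 21011727955)))
(.node 2
(.node 1
(.one 28962616869)
(.one 25172956686))
(.node 1
(.one 22857418284)
(.one 27586996361))))
(.node 4
(.node 2
(.node 1
(.one 22588065435)
(.one 28794873491))
(.node 1
(.one 22352909830)
(.one 27102143787)))
(.node 2
(.node 1
(.one 25223222946)
(.one 28376815300))
(.node 1
(.one 27738338996)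
(.one 27453186311))))))
(.node 15
(.node 7
(.node 3
(.node 1
(.one 26850379462)
(.node 1
(.one 23880241389)
(.one 21413103072)))
(.node 2
(.node 1
(.one 25323028723)
(.one 28326418101))
(.node 1
(.one 27235972813)
(.one 28158760450))))
(.node 4
(.node 2
(.node 1
(.one 28561016425)
(.one 22991472140))
(.node 1
(.one 21664915631)
(.one 26917717317)))
(.node 2
(.node 1
(.one 28998145456)
(.one 25573799535))
(.node 1
(.one 29181449782)
(.one 25624594027)))))
(.node 8
(.node 4
(.node 2
(.node 1
(.one 28612048532)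
(.one 23275353370))
(.node 1
(.one 21934416138)
(.one 24886490682)))
(.node 2
(.node 1
(.one 28259845555)
(.one 26480543117))
(.node 1
(.one 22085576231)
(.one 28679046560))))
(.node 4
(.node 2
(.node 1
(.one 27352285344)
(.one 23394567683))
(.node 1
(.one 28530222613)
(.one 24651916824)))
(.node 2
(.node 1
(.one 25540671626)
(.one 25004699830))
(.node 1
(.one 34434983972)
(.one 31414911377)))))))))

/-- links -/
def par0 : Tree :=
(.node 121
(.node 60
(.node 30
(.node 15
(.node 7
(.node 3
(.node 1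
(.one 0)
(.node 1
(.one 0)
(.one 1)))
(.node 2
(.node 1
(.one 2)
(.one 4))
(.node 1
(.one 5)
(.one 6))))
(.node 4
(.node 2
(.node 1
(.one 8)
(.one 9))
(.node 1
(.one 10)
(.one 12)))
(.node 2
(.node 1
(.one 13)
(.one 14))
(.node 1
(.one 16)
(.one 17)))))
(.node 7
(.node 3
(.node 1
(.one 18)
(.node 1
(.one 20)
(.one 21)))
(.node 2
(.node 1
(.one 22)
(.one 24))
(.node 1
(.one 25)
(.one 26))))
(.node 4
(.node 2
(.node 1
(.one 28)
(.one 29))
(.node 1
(.one 30)
(.one 32)))
(.node 2
(.node 1
(.one 34)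
(.one 36))
(.node 1
(.one 37)
(.one 38))))))
(.node 15
(.node 7
(.node 3
(.node 1
(.one 40)
(.node 1
(.one 41)
(.one 42)))
(.node 2
(.node 1
(.one 44)
(.one 45))
(.node 1
(.one 46)
(.one 48))))
(.node 4
(.node 2
(.node 1
(.one 49)
(.one 52))
(.node 1
(.one 53)
(.one 54)))
(.node 2
(.node 1
(.one 56)
(.one 57))
(.node 1
(.one 58)
(.one 60)))))
(.node 7
(.node 3
(.node 1
(.one 61)
(.node 1
(.one 62)
(.one 64)))
(.node 2
(.node 1
(.one 65)
(.one 66))
(.node 1
(.one 68)
(.one 70))))
(.node 4
(.node 2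
(.node 1
(.one 72)
(.one 73))
(.node 1
(.one 74)
(.one 76)))
(.node 2
(.node 1
(.one 77)
(.one 78))
(.node 1
(.one 80)
(.one 81)))))))
(.node 30
(.node 15
(.node 7
(.node 3
(.node 1
(.one 82)
(.node 1
(.one 84)
(.one 85)))
(.node 2
(.node 1
(.one 89)
(.one 90))
(.node 1
(.one 92)
(.one 93))))
(.node 4
(.node 2
(.node 1
(.one 94)
(.one 96))
(.node 1
(.one 97)
(.one 98)))
(.node 2
(.node 1
(.one 100)
(.one 101))
(.node 1
(.one 102)
(.one 104)))))
(.node 7
(.node 3
(.node 1
(.one 105)
(.node 1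
(.one 106)
(.one 108)))
(.node 2
(.node 1
(.one 109)
(.one 110))
(.node 1
(.one 112)
(.one 113))))
(.node 4
(.node 2
(.node 1
(.one 114)
(.one 116))
(.node 1
(.one 117)
(.one 121)))
(.node 2
(.node 1
(.one 122)
(.one 124))
(.node 1
(.one 126)
(.one 128))))))
(.node 15
(.node 7
(.node 3
(.node 1
(.one 129)
(.node 1
(.one 130)
(.one 132)))
(.node 2
(.node 1
(.one 134)
(.one 136))
(.node 1
(.one 138)
(.one 140))))
(.node 4
(.node 2
(.node 1
(.one 141)
(.one 142))
(.node 1
(.one 144)
(.one 145)))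
(.node 2
(.node 1
(.one 146)
(.one 148))
(.node 1
(.one 149)
(.one 150)))))
(.node 8
(.node 4
(.node 2
(.node 1
(.one 152)
(.one 153))
(.node 1
(.one 154)
(.one 156)))
(.node 2
(.node 1
(.one 157)
(.one 158))
(.node 1
(.one 160)
(.one 161))))
(.node 4
(.node 2
(.node 1
(.one 162)
(.one 164))
(.node 1
(.one 165)
(.one 166)))
(.node 2
(.node 1
(.one 168)
(.one 170))
(.node 1
(.one 172)
(.one 173))))))))
(.node 61
(.node 30
(.node 15
(.node 7
(.node 3
(.node 1
(.one 174)
(.node 1
(.one 176)
(.one 177)))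
(.node 2
(.node 1
(.one 178)
(.one 180))
(.node 1
(.one 181)
(.one 182))))
(.node 4
(.node 2
(.node 1
(.one 184)
(.one 185))
(.node 1
(.one 189)
(.one 190)))
(.node 2
(.node 1
(.one 192)
(.one 193))
(.node 1
(.one 194)
(.one 196)))))
(.node 7
(.node 3
(.node 1
(.one 197)
(.node 1
(.one 198)
(.one 200)))
(.node 2
(.node 1
(.one 201)
(.one 202))
(.node 1
(.one 204)
(.one 205))))
(.node 4
(.node 2
(.node 1
(.one 206)
(.one 208))
(.node 1
(.one 209)
(.one 210)))
(.node 2
(.node 1
(.one 212)
(.one 213))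
(.node 1
(.one 214)
(.one 216))))))
(.node 15
(.node 7
(.node 3
(.node 1
(.one 217)
(.node 1
(.one 221)
(.one 222)))
(.node 2
(.node 1
(.one 224)
(.one 226))
(.node 1
(.one 228)
(.one 229))))
(.node 4
(.node 2
(.node 1
(.one 230)
(.one 232))
(.node 1
(.one 234)
(.one 236)))
(.node 2
(.node 1
(.one 238)
(.one 240))
(.node 1
(.one 241)
(.one 242)))))
(.node 8
(.node 4
(.node 2
(.node 1
(.one 244)
(.one 245))
(.node 1
(.one 246)
(.one 248)))
(.node 2
(.node 1
(.one 249)
(.one 250))
(.node 1
(.one 252)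
(.one 253))))
(.node 4
(.node 2
(.node 1
(.one 256)
(.one 257))
(.node 1
(.one 258)
(.one 260)))
(.node 2
(.node 1
(.one 262)
(.one 264))
(.node 1
(.one 266)
(.one 268)))))))
(.node 30
(.node 15
(.node 7
(.node 3
(.node 1
(.one 269)
(.node 1
(.one 270)
(.one 272)))
(.node 2
(.node 1
(.one 273)
(.one 274))
(.node 1
(.one 276)
(.one 277))))
(.node 4
(.node 2
(.node 1
(.one 278)
(.one 280))
(.node 1
(.one 281)
(.one 285)))
(.node 2
(.node 1
(.one 286)
(.one 288))
(.node 1
(.one 289)
(.one 290)))))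
(.node 7
(.node 3
(.node 1
(.one 292)
(.node 1
(.one 293)
(.one 294)))
(.node 2
(.node 1
(.one 296)
(.one 297))
(.node 1
(.one 298)
(.one 300))))
(.node 4
(.node 2
(.node 1
(.one 301)
(.one 302))
(.node 1
(.one 304)
(.one 305)))
(.node 2
(.node 1
(.one 309)
(.one 310))
(.node 1
(.one 312)
(.one 314))))))
(.node 15
(.node 7
(.node 3
(.node 1
(.one 316)
(.node 1
(.one 317)
(.one 318)))
(.node 2
(.node 1
(.one 320)
(.one 322))
(.node 1
(.one 324)
(.one 326))))
(.node 4
(.node 2
(.node 1
(.one 328)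
(.one 329))
(.node 1
(.one 330)
(.one 332)))
(.node 2
(.node 1
(.one 333)
(.one 334))
(.node 1
(.one 336)
(.one 337)))))
(.node 8
(.node 4
(.node 2
(.node 1
(.one 338)
(.one 340))
(.node 1
(.one 341)
(.one 345)))
(.node 2
(.node 1
(.one 346)
(.one 348))
(.node 1
(.one 349)
(.one 350))))
(.node 4
(.node 2
(.node 1
(.one 352)
(.one 353))
(.node 1
(.one 354)
(.one 360)))
(.node 2
(.node 1
(.one 361)
(.one 362))
(.node 1
(.one 364)
(.one 365)))))))))

/-- links -/
def par1 : Tree :=
(.node 121
(.node 60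
(.node 30
(.node 15
(.node 7
(.node 3
(.node 1
(.one 369)
(.node 1
(.one 370)
(.one 372)))
(.node 2
(.node 1
(.one 373)
(.one 374))
(.node 1
(.one 376)
(.one 377))))
(.node 4
(.node 2
(.node 1
(.one 378)
(.one 380))
(.node 1
(.one 382)
(.one 384)))
(.node 2
(.node 1
(.one 386)
(.one 388))
(.node 1
(.one 390)
(.one 392)))))
(.node 7
(.node 3
(.node 1
(.one 393)
(.node 1
(.one 397)
(.one 398)))
(.node 2
(.node 1
(.one 402)
(.one 404))
(.node 1
(.one 405)
(.one 406))))
(.node 4
(.node 2
(.node 1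
(.one 408)
(.one 410))
(.node 1
(.one 412)
(.one 416)))
(.node 2
(.node 1
(.one 417)
(.one 418))
(.node 1
(.one 420)
(.one 421))))))
(.node 15
(.node 7
(.node 3
(.node 1
(.one 422)
(.node 1
(.one 424)
(.one 425)))
(.node 2
(.node 1
(.one 426)
(.one 428))
(.node 1
(.one 429)
(.one 430))))
(.node 4
(.node 2
(.node 1
(.one 432)
(.one 433))
(.node 1
(.one 434)
(.one 436)))
(.node 2
(.node 1
(.one 438)
(.one 440))
(.node 1
(.one 441)
(.one 442)))))
(.node 7
(.node 3
(.node 1
(.one 444)
(.node 1
(.one 445)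
(.one 446)))
(.node 2
(.node 1
(.one 448)
(.one 449))
(.node 1
(.one 450)
(.one 452))))
(.node 4
(.node 2
(.node 1
(.one 453)
(.one 457))
(.node 1
(.one 458)
(.one 460)))
(.node 2
(.node 1
(.one 461)
(.one 462))
(.node 1
(.one 464)
(.one 465)))))))
(.node 30
(.node 15
(.node 7
(.node 3
(.node 1
(.one 466)
(.node 1
(.one 469)
(.one 470)))
(.node 2
(.node 1
(.one 472)
(.one 473))
(.node 1
(.one 474)
(.one 476))))
(.node 4
(.node 2
(.node 1
(.one 477)
(.one 478))
(.node 1
(.one 480)
(.one 481)))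
(.node 2
(.node 1
(.one 482)
(.one 484))
(.node 1
(.one 485)
(.one 489)))))
(.node 7
(.node 3
(.node 1
(.one 490)
(.node 1
(.one 492)
(.one 494)))
(.node 2
(.node 1
(.one 496)
(.one 497))
(.node 1
(.one 498)
(.one 500))))
(.node 4
(.node 2
(.node 1
(.one 502)
(.one 504))
(.node 1
(.one 506)
(.one 508)))
(.node 2
(.node 1
(.one 509)
(.one 510))
(.node 1
(.one 513)
(.one 514))))))
(.node 15
(.node 7
(.node 3
(.node 1
(.one 516)
(.node 1
(.one 517)
(.one 518)))
(.node 2
(.node 1
(.one 520)
(.one 521))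
(.node 1
(.one 524)
(.one 525))))
(.node 4
(.node 2
(.node 1
(.one 526)
(.one 528))
(.node 1
(.one 530)
(.one 532)))
(.node 2
(.node 1
(.one 534)
(.one 536))
(.node 1
(.one 537)
(.one 538)))))
(.node 8
(.node 4
(.node 2
(.node 1
(.one 540)
(.one 541))
(.node 1
(.one 542)
(.one 544)))
(.node 2
(.node 1
(.one 545)
(.one 546))
(.node 1
(.one 548)
(.one 549))))
(.node 4
(.node 2
(.node 1
(.one 553)
(.one 554))
(.node 1
(.one 556)
(.one 557)))
(.node 2
(.node 1
(.one 558)
(.one 560))
(.node 1
(.one 561)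
(.one 562))))))))
(.node 61
(.node 30
(.node 15
(.node 7
(.node 3
(.node 1
(.one 564)
(.node 1
(.one 565)
(.one 566)))
(.node 2
(.node 1
(.one 568)
(.one 569))
(.node 1
(.one 570)
(.one 572))))
(.node 4
(.node 2
(.node 1
(.one 573)
(.one 577))
(.node 1
(.one 578)
(.one 580)))
(.node 2
(.node 1
(.one 582)
(.one 584))
(.node 1
(.one 585)
(.one 586)))))
(.node 7
(.node 3
(.node 1
(.one 588)
(.node 1
(.one 590)
(.one 592)))
(.node 2
(.node 1
(.one 594)
(.one 596))
(.node 1
(.one 597)
(.one 598))))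
(.node 4
(.node 2
(.node 1
(.one 600)
(.one 601))
(.node 1
(.one 602)
(.one 604)))
(.node 2
(.node 1
(.one 605)
(.one 606))
(.node 1
(.one 608)
(.one 609))))))
(.node 15
(.node 7
(.node 3
(.node 1
(.one 613)
(.node 1
(.one 614)
(.one 616)))
(.node 2
(.node 1
(.one 617)
(.one 618))
(.node 1
(.one 620)
(.one 621))))
(.node 4
(.node 2
(.node 1
(.one 622)
(.one 629))
(.node 1
(.one 630)
(.one 632)))
(.node 2
(.node 1
(.one 633)
(.one 637))
(.node 1
(.one 638)
(.one 640)))))
(.node 8
(.node 4
(.node 2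
(.node 1
(.one 641)
(.one 642))
(.node 1
(.one 644)
(.one 645)))
(.node 2
(.node 1
(.one 646)
(.one 648))
(.node 1
(.one 650)
(.one 652))))
(.node 4
(.node 2
(.node 1
(.one 654)
(.one 656))
(.node 1
(.one 658)
(.one 660)))
(.node 2
(.node 1
(.one 661)
(.one 665))
(.node 1
(.one 666)
(.one 670)))))))
(.node 30
(.node 15
(.node 7
(.node 3
(.node 1
(.one 672)
(.node 1
(.one 673)
(.one 674)))
(.node 2
(.node 1
(.one 676)
(.one 678))
(.node 1
(.one 680)
(.one 684))))
(.node 4
(.node 2
(.node 1
(.one 685)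
(.one 686))
(.node 1
(.one 688)
(.one 689)))
(.node 2
(.node 1
(.one 690)
(.one 692))
(.node 1
(.one 694)
(.one 696)))))
(.node 7
(.node 3
(.node 1
(.one 697)
(.node 1
(.one 698)
(.one 700)))
(.node 2
(.node 1
(.one 701)
(.one 704))
(.node 1
(.one 709)
(.one 710))))
(.node 4
(.node 2
(.node 1
(.one 712)
(.one 713))
(.node 1
(.one 714)
(.one 716)))
(.node 2
(.node 1
(.one 717)
(.one 720))
(.node 1
(.one 722)
(.one 724))))))
(.node 15
(.node 7
(.node 3
(.node 1
(.one 725)
(.node 1
(.one 728)
(.one 729)))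
(.node 2
(.node 1
(.one 730)
(.one 732))
(.node 1
(.one 733)
(.one 737))))
(.node 4
(.node 2
(.node 1
(.one 738)
(.one 742))
(.node 1
(.one 744)
(.one 745)))
(.node 2
(.node 1
(.one 746)
(.one 748))
(.node 1
(.one 750)
(.one 752)))))
(.node 8
(.node 4
(.node 2
(.node 1
(.one 754)
(.one 756))
(.node 1
(.one 757)
(.one 758)))
(.node 2
(.node 1
(.one 760)
(.one 761))
(.node 1
(.one 762)
(.one 764))))
(.node 4
(.node 2
(.node 1
(.one 768)
(.one 773))
(.node 1
(.one 774)
(.one 776)))
(.node 2
(.node 1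
(.one 778)
(.one 780))
(.node 1
(.one 782)
(.one 784)))))))))

/-- links -/
def par2 : Tree :=
(.node 121
(.node 60
(.node 30
(.node 15
(.node 7
(.node 3
(.node 1
(.one 785)
(.node 1
(.one 786)
(.one 788)))
(.node 2
(.node 1
(.one 789)
(.one 790))
(.node 1
(.one 792)
(.one 793))))
(.node 4
(.node 2
(.node 1
(.one 794)
(.one 796))
(.node 1
(.one 804)
(.one 806)))
(.node 2
(.node 1
(.one 809)
(.one 810))
(.node 1
(.one 812)
(.one 814)))))
(.node 7
(.node 3
(.node 1
(.one 816)
(.node 1
(.one 820)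
(.one 821)))
(.node 2
(.node 1
(.one 825)
(.one 826))
(.node 1
(.one 828)
(.one 829))))
(.node 4
(.node 2
(.node 1
(.one 837)
(.one 838))
(.node 1
(.one 841)
(.one 842)))
(.node 2
(.node 1
(.one 845)
(.one 846))
(.node 1
(.one 852)
(.one 853))))))
(.node 15
(.node 7
(.node 3
(.node 1
(.one 854)
(.node 1
(.one 856)
(.one 857)))
(.node 2
(.node 1
(.one 861)
(.one 862))
(.node 1
(.one 864)
(.one 865))))
(.node 4
(.node 2
(.node 1
(.one 866)
(.one 868))
(.node 1
(.one 869)
(.one 870)))
(.node 2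
(.node 1
(.one 872)
(.one 874))
(.node 1
(.one 876)
(.one 878)))))
(.node 7
(.node 3
(.node 1
(.one 880)
(.node 1
(.one 882)
(.one 884)))
(.node 2
(.node 1
(.one 885)
(.one 889))
(.node 1
(.one 890)
(.one 894))))
(.node 4
(.node 2
(.node 1
(.one 897)
(.one 898))
(.node 1
(.one 900)
(.one 902)))
(.node 2
(.node 1
(.one 904)
(.one 909))
(.node 1
(.one 910)
(.one 912)))))))
(.node 30
(.node 15
(.node 7
(.node 3
(.node 1
(.one 913)
(.node 1
(.one 920)
(.one 921)))
(.node 2
(.node 1
(.one 922)
(.one 925))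
(.node 1
(.one 929)
(.one 930))))
(.node 4
(.node 2
(.node 1
(.one 932)
(.one 933))
(.node 1
(.one 934)
(.one 936)))
(.node 2
(.node 1
(.one 937)
(.one 938))
(.node 1
(.one 942)
(.one 945)))))
(.node 7
(.node 3
(.node 1
(.one 946)
(.node 1
(.one 948)
(.one 949)))
(.node 2
(.node 1
(.one 952)
(.one 954))
(.node 1
(.one 958)
(.one 960))))
(.node 4
(.node 2
(.node 1
(.one 961)
(.one 962))
(.node 1
(.one 968)
(.one 969)))
(.node 2
(.node 1
(.one 970)
(.one 972))
(.node 1
(.one 973)
(.one 976))))))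
(.node 15
(.node 7
(.node 3
(.node 1
(.one 978)
(.node 1
(.one 980)
(.one 981)))
(.node 2
(.node 1
(.one 982)
(.one 985))
(.node 1
(.one 986)
(.one 989))))
(.node 4
(.node 2
(.node 1
(.one 993)
(.one 996))
(.node 1
(.one 997)
(.one 998)))
(.node 2
(.node 1
(.one 1000)
(.one 1001))
(.node 1
(.one 1002)
(.one 1005)))))
(.node 8
(.node 4
(.node 2
(.node 1
(.one 1006)
(.one 1008))
(.node 1
(.one 1013)
(.one 1014)))
(.node 2
(.node 1
(.one 1016)
(.one 1017))
(.node 1
(.one 1018)
(.one 1020))))
(.node 4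
(.node 2
(.node 1
(.one 1022)
(.one 1024))
(.node 1
(.one 1026)
(.one 1028)))
(.node 2
(.node 1
(.one 1030)
(.one 1032))
(.node 1
(.one 1034)
(.one 1036))))))))
(.node 61
(.node 30
(.node 15
(.node 7
(.node 3
(.node 1
(.one 1041)
(.node 1
(.one 1042)
(.one 1044)))
(.node 2
(.node 1
(.one 1045)
(.one 1046))
(.node 1
(.one 1053)
(.one 1056))))
(.node 4
(.node 2
(.node 1
(.one 1057)
(.one 1061))
(.node 1
(.one 1062)
(.one 1064)))
(.node 2
(.node 1
(.one 1065)
(.one 1070))
(.node 1
(.one 1072)
(.one 1074)))))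
(.node 7
(.node 3
(.node 1
(.one 1078)
(.node 1
(.one 1080)
(.one 1081)))
(.node 2
(.node 1
(.one 1084)
(.one 1085))
(.node 1
(.one 1086)
(.one 1090))))
(.node 4
(.node 2
(.node 1
(.one 1092)
(.one 1093))
(.node 1
(.one 1096)
(.one 1097)))
(.node 2
(.node 1
(.one 1098)
(.one 1100))
(.node 1
(.one 1102)
(.one 1104))))))
(.node 15
(.node 7
(.node 3
(.node 1
(.one 1105)
(.node 1
(.one 1106)
(.one 1108)))
(.node 2
(.node 1
(.one 1109)
(.one 1110))
(.node 1
(.one 1112)
(.one 1113))))
(.node 4
(.node 2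
(.node 1
(.one 1114)
(.one 1121))
(.node 1
(.one 1122)
(.one 1124)))
(.node 2
(.node 1
(.one 1125)
(.one 1126))
(.node 1
(.one 1128)
(.one 1129)))))
(.node 8
(.node 4
(.node 2
(.node 1
(.one 1130)
(.one 1133))
(.node 1
(.one 1134)
(.one 1136)))
(.node 2
(.node 1
(.one 1137)
(.one 1138))
(.node 1
(.one 1141)
(.one 1142))))
(.node 4
(.node 2
(.node 1
(.one 1144)
(.one 1145))
(.node 1
(.one 1146)
(.one 1148)))
(.node 2
(.node 1
(.one 1149)
(.one 1153))
(.node 1
(.one 1154)
(.one 1156)))))))
(.node 30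
(.node 15
(.node 7
(.node 3
(.node 1
(.one 1158)
(.node 1
(.one 1160)
(.one 1161)))
(.node 2
(.node 1
(.one 1162)
(.one 1164))
(.node 1
(.one 1166)
(.one 1168))))
(.node 4
(.node 2
(.node 1
(.one 1170)
(.one 1172))
(.node 1
(.one 1173)
(.one 1174)))
(.node 2
(.node 1
(.one 1177)
(.one 1178))
(.node 1
(.one 1180)
(.one 1181)))))
(.node 7
(.node 3
(.node 1
(.one 1182)
(.node 1
(.one 1184)
(.one 1185)))
(.node 2
(.node 1
(.one 1188)
(.one 1189))
(.node 1
(.one 1190)
(.one 1192))))
(.node 4
(.node 2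
(.node 1
(.one 1194)
(.one 1196))
(.node 1
(.one 1198)
(.one 1200)))
(.node 2
(.node 1
(.one 1201)
(.one 1202))
(.node 1
(.one 1204)
(.one 1205))))))
(.node 15
(.node 7
(.node 3
(.node 1
(.one 1206)
(.node 1
(.one 1208)
(.one 1209)))
(.node 2
(.node 1
(.one 1210)
(.one 1212))
(.node 1
(.one 1213)
(.one 1216))))
(.node 4
(.node 2
(.node 1
(.one 1217)
(.one 1220))
(.node 1
(.one 1221)
(.one 1224)))
(.node 2
(.node 1
(.one 1225)
(.one 1226))
(.node 1
(.one 1228)
(.one 1229)))))
(.node 8
(.node 4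
(.node 2
(.node 1
(.one 1230)
(.one 1232))
(.node 1
(.one 1233)
(.one 1237)))
(.node 2
(.node 1
(.one 1240)
(.one 1242))
(.node 1
(.one 1244)
(.one 1245))))
(.node 4
(.node 2
(.node 1
(.one 1246)
(.one 1248))
(.node 1
(.one 1250)
(.one 1252)))
(.node 2
(.node 1
(.one 1254)
(.one 1256))
(.node 1
(.one 1257)
(.one 1260)))))))))

/-- links -/
def par3 : Tree :=
(.node 121
(.node 60
(.node 30
(.node 15
(.node 7
(.node 3
(.node 1
(.one 1261)
(.node 1
(.one 1262)
(.one 1264)))
(.node 2
(.node 1
(.one 1265)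
(.one 1266))
(.node 1
(.one 1268)
(.one 1269))))
(.node 4
(.node 2
(.node 1
(.one 1273)
(.one 1274))
(.node 1
(.one 1276)
(.one 1277)))
(.node 2
(.node 1
(.one 1278)
(.one 1280))
(.node 1
(.one 1281)
(.one 1282)))))
(.node 7
(.node 3
(.node 1
(.one 1289)
(.node 1
(.one 1290)
(.one 1292)))
(.node 2
(.node 1
(.one 1293)
(.one 1297))
(.node 1
(.one 1298)
(.one 1300))))
(.node 4
(.node 2
(.node 1
(.one 1301)
(.one 1302))
(.node 1
(.one 1304)
(.one 1305)))
(.node 2
(.node 1
(.one 1306)
(.one 1308))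
(.node 1
(.one 1310)
(.one 1312))))))
(.node 15
(.node 7
(.node 3
(.node 1
(.one 1314)
(.node 1
(.one 1316)
(.one 1318)))
(.node 2
(.node 1
(.one 1320)
(.one 1321))
(.node 1
(.one 1326)
(.one 1329))))
(.node 4
(.node 2
(.node 1
(.one 1330)
(.one 1332))
(.node 1
(.one 1334)
(.one 1336)))
(.node 2
(.node 1
(.one 1340)
(.one 1342))
(.node 1
(.one 1344)
(.one 1345)))))
(.node 7
(.node 3
(.node 1
(.one 1346)
(.node 1
(.one 1348)
(.one 1350)))
(.node 2
(.node 1
(.one 1352)
(.one 1353))
(.node 1
(.one 1354)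
(.one 1356))))
(.node 4
(.node 2
(.node 1
(.one 1357)
(.one 1360))
(.node 1
(.one 1365)
(.one 1366)))
(.node 2
(.node 1
(.one 1368)
(.one 1369))
(.node 1
(.one 1370)
(.one 1372)))))))
(.node 30
(.node 15
(.node 7
(.node 3
(.node 1
(.one 1373)
(.node 1
(.one 1376)
(.one 1378)))
(.node 2
(.node 1
(.one 1380)
(.one 1381))
(.node 1
(.one 1384)
(.one 1385))))
(.node 4
(.node 2
(.node 1
(.one 1386)
(.one 1388))
(.node 1
(.one 1389)
(.one 1393)))
(.node 2
(.node 1
(.one 1394)
(.one 1398))
(.node 1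
(.one 1400)
(.one 1401)))))
(.node 7
(.node 3
(.node 1
(.one 1402)
(.node 1
(.one 1404)
(.one 1406)))
(.node 2
(.node 1
(.one 1408)
(.one 1410))
(.node 1
(.one 1412)
(.one 1413))))
(.node 4
(.node 2
(.node 1
(.one 1414)
(.one 1416))
(.node 1
(.one 1417)
(.one 1418)))
(.node 2
(.node 1
(.one 1420)
(.one 1424))
(.node 1
(.one 1429)
(.one 1430))))))
(.node 15
(.node 7
(.node 3
(.node 1
(.one 1432)
(.node 1
(.one 1434)
(.one 1436)))
(.node 2
(.node 1
(.one 1438)
(.one 1440))
(.node 1
(.one 1441)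
(.one 1442))))
(.node 4
(.node 2
(.node 1
(.one 1444)
(.one 1445))
(.node 1
(.one 1446)
(.one 1448)))
(.node 2
(.node 1
(.one 1449)
(.one 1450))
(.node 1
(.one 1452)
(.one 1460)))))
(.node 8
(.node 4
(.node 2
(.node 1
(.one 1462)
(.one 1465))
(.node 1
(.one 1466)
(.one 1468)))
(.node 2
(.node 1
(.one 1470)
(.one 1472))
(.node 1
(.one 1476)
(.one 1477))))
(.node 4
(.node 2
(.node 1
(.one 1481)
(.one 1482))
(.node 1
(.one 1484)
(.one 1485)))
(.node 2
(.node 1
(.one 1493)
(.one 1494))
(.node 1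
(.one 1497)
(.one 1498))))))))
(.node 61
(.node 30
(.node 15
(.node 7
(.node 3
(.node 1
(.one 1501)
(.node 1
(.one 1502)
(.one 1509)))
(.node 2
(.node 1
(.one 1510)
(.one 1512))
(.node 1
(.one 1513)
(.one 1517))))
(.node 4
(.node 2
(.node 1
(.one 1518)
(.one 1521))
(.node 1
(.one 1522)
(.one 1524)))
(.node 2
(.node 1
(.one 1525)
(.one 1526))
(.node 1
(.one 1528)
(.one 1530)))))
(.node 7
(.node 3
(.node 1
(.one 1532)
(.node 1
(.one 1534)
(.one 1536)))
(.node 2
(.node 1
(.one 1538)
(.one 1540))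
(.node 1
(.one 1541)
(.one 1545))))
(.node 4
(.node 2
(.node 1
(.one 1546)
(.one 1550))
(.node 1
(.one 1553)
(.one 1554)))
(.node 2
(.node 1
(.one 1556)
(.one 1558))
(.node 1
(.one 1560)
(.one 1565))))))
(.node 15
(.node 7
(.node 3
(.node 1
(.one 1566)
(.node 1
(.one 1568)
(.one 1569)))
(.node 2
(.node 1
(.one 1576)
(.one 1577))
(.node 1
(.one 1578)
(.one 1581))))
(.node 4
(.node 2
(.node 1
(.one 1585)
(.one 1586))
(.node 1
(.one 1588)
(.one 1589)))
(.node 2
(.node 1
(.one 1590)
(.one 1592))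
(.node 1
(.one 1593)
(.one 1594)))))
(.node 8
(.node 4
(.node 2
(.node 1
(.one 1598)
(.one 1601))
(.node 1
(.one 1602)
(.one 1604)))
(.node 2
(.node 1
(.one 1605)
(.one 1610))
(.node 1
(.one 1612)
(.one 1613))))
(.node 4
(.node 2
(.node 1
(.one 1614)
(.one 1620))
(.node 1
(.one 1621)
(.one 1622)))
(.node 2
(.node 1
(.one 1624)
(.one 1625))
(.node 1
(.one 1628)
(.one 1630)))))))
(.node 30
(.node 15
(.node 7
(.node 3
(.node 1
(.one 1632)
(.node 1
(.one 1634)
(.one 1637)))
(.node 2
(.node 1
(.one 1638)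
(.one 1641))
(.node 1
(.one 1645)
(.one 1648))))
(.node 4
(.node 2
(.node 1
(.one 1649)
(.one 1650))
(.node 1
(.one 1652)
(.one 1653)))
(.node 2
(.node 1
(.one 1654)
(.one 1657))
(.node 1
(.one 1658)
(.one 1660)))))
(.node 7
(.node 3
(.node 1
(.one 1665)
(.node 1
(.one 1666)
(.one 1668)))
(.node 2
(.node 1
(.one 1669)
(.one 1670))
(.node 1
(.one 1672)
(.one 1674))))
(.node 4
(.node 2
(.node 1
(.one 1676)
(.one 1678))
(.node 1
(.one 1680)
(.one 1682)))
(.node 2
(.node 1
(.one 1684)
(.one 1686))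
(.node 1
(.one 1688)
(.one 1693))))))
(.node 15
(.node 7
(.node 3
(.node 1
(.one 1694)
(.node 1
(.one 1696)
(.one 1697)))
(.node 2
(.node 1
(.one 1698)
(.one 1705))
(.node 1
(.one 1713)
(.one 1714))))
(.node 4
(.node 2
(.node 1
(.one 1716)
(.one 1717))
(.node 1
(.one 1722)
(.one 1726)))
(.node 2
(.node 1
(.one 1730)
(.one 1732))
(.node 1
(.one 1733)
(.one 1737)))))
(.node 8
(.node 4
(.node 2
(.node 1
(.one 1738)
(.one 1742))
(.node 1
(.one 1744)
(.one 1745)))
(.node 2
(.node 1
(.one 1746)
(.one 1750))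
(.node 1
(.one 1752)
(.one 1753))))
(.node 4
(.node 2
(.node 1
(.one 1754)
(.one 1757))
(.node 1
(.one 1758)
(.one 1760)))
(.node 2
(.node 1
(.one 1766)
(.one 1768))
(.node 1
(.one 1772)
(.one 1774)))))))))

/-- links -/
def par4 : Tree :=
(.node 121
(.node 60
(.node 30
(.node 15
(.node 7
(.node 3
(.node 1
(.one 1778)
(.node 1
(.one 1781)
(.one 1784)))
(.node 2
(.node 1
(.one 1785)
(.one 1789))
(.node 1
(.one 1790)
(.one 1793))))
(.node 4
(.node 2
(.node 1
(.one 1794)
(.one 1797))
(.node 1
(.one 1801)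
(.one 1802)))
(.node 2
(.node 1
(.one 1804)
(.one 1805))
(.node 1
(.one 1806)
(.one 1812)))))
(.node 7
(.node 3
(.node 1
(.one 1817)
(.node 1
(.one 1818)
(.one 1820)))
(.node 2
(.node 1
(.one 1822)
(.one 1824))
(.node 1
(.one 1828)
(.one 1830))))
(.node 4
(.node 2
(.node 1
(.one 1832)
(.one 1833))
(.node 1
(.one 1834)
(.one 1837)))
(.node 2
(.node 1
(.one 1840)
(.one 1852))
(.node 1
(.one 1853)
(.one 1854))))))
(.node 15
(.node 7
(.node 3
(.node 1
(.one 1861)
(.node 1
(.one 1862)
(.one 1865)))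
(.node 2
(.node 1
(.one 1869)
(.one 1870))
(.node 1
(.one 1874)
(.one 1876))))
(.node 4
(.node 2
(.node 1
(.one 1877)
(.one 1880))
(.node 1
(.one 1886)
(.one 1888)))
(.node 2
(.node 1
(.one 1893)
(.one 1897))
(.node 1
(.one 1898)
(.one 1902)))))
(.node 7
(.node 3
(.node 1
(.one 1904)
(.node 1
(.one 1905)
(.one 1910)))
(.node 2
(.node 1
(.one 1913)
(.one 1914))
(.node 1
(.one 1916)
(.one 1917))))
(.node 4
(.node 2
(.node 1
(.one 1920)
(.one 1926))
(.node 1
(.one 1928)
(.one 1932)))
(.node 2
(.node 1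
(.one 1933)
(.one 1936))
(.node 1
(.one 1938)
(.one 1940)))))))
(.node 30
(.node 15
(.node 7
(.node 3
(.node 1
(.one 1944)
(.node 1
(.one 1946)
(.one 1948)))
(.node 2
(.node 1
(.one 1949)
(.one 1961))
(.node 1
(.one 1962)
(.one 1966))))
(.node 4
(.node 2
(.node 1
(.one 1968)
(.one 1970))
(.node 1
(.one 1972)
(.one 1976)))
(.node 2
(.node 1
(.one 1977)
(.one 1978))
(.node 1
(.one 1981)
(.one 1982)))))
(.node 7
(.node 3
(.node 1
(.one 1986)
(.node 1
(.one 1988)
(.one 1989)))
(.node 2
(.node 1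
(.one 1990)
(.one 1992))
(.node 1
(.one 1993)
(.one 1997))))
(.node 4
(.node 2
(.node 1
(.one 1998)
(.one 2000))
(.node 1
(.one 2002)
(.one 2006)))
(.node 2
(.node 1
(.one 2008)
(.one 2010))
(.node 1
(.one 2012)
(.one 2014))))))
(.node 15
(.node 7
(.node 3
(.node 1
(.one 2018)
(.node 1
(.one 2021)
(.one 2026)))
(.node 2
(.node 1
(.one 2028)
(.one 2033))
(.node 1
(.one 2034)
(.one 2045))))
(.node 4
(.node 2
(.node 1
(.one 2050)
(.one 2052))
(.node 1
(.one 2053)
(.one 2062)))
(.node 2
(.node 1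
(.one 2064)
(.one 2065))
(.node 1
(.one 2066)
(.one 2072)))))
(.node 8
(.node 4
(.node 2
(.node 1
(.one 2073)
(.one 2074))
(.node 1
(.one 2084)
(.one 2085)))
(.node 2
(.node 1
(.one 2089)
(.one 2090))
(.node 1
(.one 2093)
(.one 2097))))
(.node 4
(.node 2
(.node 1
(.one 2100)
(.one 2101))
(.node 1
(.one 2104)
(.one 2105)))
(.node 2
(.node 1
(.one 2106)
(.one 2109))
(.node 1
(.one 2110)
(.one 2112))))))))
(.node 61
(.node 30
(.node 15
(.node 7
(.node 3
(.node 1
(.one 2117)
(.node 1
(.one 2118)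
(.one 2121)))
(.node 2
(.node 1
(.one 2122)
(.one 2124))
(.node 1
(.one 2126)
(.one 2130))))
(.node 4
(.node 2
(.node 1
(.one 2132)
(.one 2136))
(.node 1
(.one 2138)
(.one 2140)))
(.node 2
(.node 1
(.one 2149)
(.one 2153))
(.node 1
(.one 2157)
(.one 2161)))))
(.node 7
(.node 3
(.node 1
(.one 2164)
(.node 1
(.one 2170)
(.one 2174)))
(.node 2
(.node 1
(.one 2176)
(.one 2177))
(.node 1
(.one 2182)
(.one 2190))))
(.node 4
(.node 2
(.node 1
(.one 2192)
(.one 2194))
(.node 1
(.one 2196)
(.one 2197)))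
(.node 2
(.node 1
(.one 2198)
(.one 2202))
(.node 1
(.one 2208)
(.one 2212))))))
(.node 15
(.node 7
(.node 3
(.node 1
(.one 2214)
(.node 1
(.one 2221)
(.one 2222)))
(.node 2
(.node 1
(.one 2226)
(.one 2230))
(.node 1
(.one 2232)
(.one 2233))))
(.node 4
(.node 2
(.node 1
(.one 2238)
(.one 2242))
(.node 1
(.one 2244)
(.one 2245)))
(.node 2
(.node 1
(.one 2248)
(.one 2249))
(.node 1
(.one 2250)
(.one 2253)))))
(.node 8
(.node 4
(.node 2
(.node 1
(.one 2254)
(.one 2257))
(.node 1
(.one 2258)
(.one 2261)))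
(.node 2
(.node 1
(.one 2262)
(.one 2264))
(.node 1
(.one 2274)
(.one 2276))))
(.node 4
(.node 2
(.node 1
(.one 2280)
(.one 2282))
(.node 1
(.one 2288)
(.one 2290)))
(.node 2
(.node 1
(.one 2294)
(.one 2301))
(.node 1
(.one 2302)
(.one 2304)))))))
(.node 30
(.node 15
(.node 7
(.node 3
(.node 1
(.one 2309)
(.node 1
(.one 2310)
(.one 2316)))
(.node 2
(.node 1
(.one 2322)
(.one 2325))
(.node 1
(.one 2340)
(.one 2344))))
(.node 4
(.node 2
(.node 1
(.one 2345)
(.one 2346))
(.node 1
(.one 2362)
(.one 2365)))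
(.node 2
(.node 1
(.one 2366)
(.one 2369))
(.node 1
(.one 2378)
(.one 2385)))))
(.node 7
(.node 3
(.node 1
(.one 2386)
(.node 1
(.one 2393)
(.one 2397)))
(.node 2
(.node 1
(.one 2398)
(.one 2404))
(.node 1
(.one 2422)
(.one 2424))))
(.node 4
(.node 2
(.node 1
(.one 2425)
(.one 2433))
(.node 1
(.one 2438)
(.one 2441)))
(.node 2
(.node 1
(.one 2442)
(.one 2464))
(.node 1
(.one 2473)
(.one 2476))))))
(.node 15
(.node 7
(.node 3
(.node 1
(.one 2477)
(.node 1
(.one 2484)
(.one 2490)))
(.node 2
(.node 1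
(.one 2492)
(.one 2494))
(.node 1
(.one 2498)
(.one 2500))))
(.node 4
(.node 2
(.node 1
(.one 2501)
(.one 2502))
(.node 1
(.one 2508)
(.one 2509)))
(.node 2
(.node 1
(.one 2512)
(.one 2513))
(.node 1
(.one 2514)
(.one 2517)))))
(.node 8
(.node 4
(.node 2
(.node 1
(.one 2518)
(.one 2520))
(.node 1
(.one 2521)
(.one 2522)))
(.node 2
(.node 1
(.one 2525)
(.one 2526))
(.node 1
(.one 2529)
(.one 2530))))
(.node 4
(.node 2
(.node 1
(.one 2532)
(.one 2533))
(.node 1
(.one 2534)
(.one 2537)))
(.node 2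
(.node 1
(.one 2538)
(.one 2540))
(.node 1
(.one 2541)
(.one 2542)))))))))

/-- links -/
def par5 : Tree :=
(.node 121
(.node 60
(.node 30
(.node 15
(.node 7
(.node 3
(.node 1
(.one 2546)
(.node 1
(.one 2548)
(.one 2550)))
(.node 2
(.node 1
(.one 2552)
(.one 2553))
(.node 1
(.one 2557)
(.one 2558))))
(.node 4
(.node 2
(.node 1
(.one 2560)
(.one 2562))
(.node 1
(.one 2568)
(.one 2570)))
(.node 2
(.node 1
(.one 2572)
(.one 2574))
(.node 1
(.one 2576)
(.one 2577)))))
(.node 7
(.node 3
(.node 1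
(.one 2578)
(.node 1
(.one 2584)
(.one 2585)))
(.node 2
(.node 1
(.one 2588)
(.one 2590))
(.node 1
(.one 2592)
(.one 2594))))
(.node 4
(.node 2
(.node 1
(.one 2596)
(.one 2597))
(.node 1
(.one 2598)
(.one 2600)))
(.node 2
(.node 1
(.one 2601)
(.one 2602))
(.node 1
(.one 2604)
(.one 2605))))))
(.node 15
(.node 7
(.node 3
(.node 1
(.one 2606)
(.node 1
(.one 2612)
(.one 2613)))
(.node 2
(.node 1
(.one 2616)
(.one 2617))
(.node 1
(.one 2621)
(.one 2622))))
(.node 4
(.node 2
(.node 1
(.one 2624)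
(.one 2625))
(.node 1
(.one 2626)
(.one 2628)))
(.node 2
(.node 1
(.one 2629)
(.one 2632))
(.node 1
(.one 2636)
(.one 2637)))))
(.node 7
(.node 3
(.node 1
(.one 2638)
(.node 1
(.one 2640)
(.one 2642)))
(.node 2
(.node 1
(.one 2644)
(.one 2646))
(.node 1
(.one 2648)
(.one 2649))))
(.node 4
(.node 2
(.node 1
(.one 2653)
(.one 2654))
(.node 1
(.one 2656)
(.one 2657)))
(.node 2
(.node 1
(.one 2658)
(.one 2665))
(.node 1
(.one 2668)
(.one 2669)))))))
(.node 30
(.node 15
(.node 7
(.node 3
(.node 1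
(.one 2670)
(.node 1
(.one 2672)
(.one 2673)))
(.node 2
(.node 1
(.one 2674)
(.one 2681))
(.node 1
(.one 2682)
(.one 2689))))
(.node 4
(.node 2
(.node 1
(.one 2690)
(.one 2692))
(.node 1
(.one 2693)
(.one 2694)))
(.node 2
(.node 1
(.one 2697)
(.one 2698))
(.node 1
(.one 2700)
(.one 2702)))))
(.node 7
(.node 3
(.node 1
(.one 2706)
(.node 1
(.one 2708)
(.one 2710)))
(.node 2
(.node 1
(.one 2712)
(.one 2713))
(.node 1
(.one 2718)
(.one 2721))))
(.node 4
(.node 2
(.node 1
(.one 2722)
(.one 2724))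
(.node 1
(.one 2726)
(.one 2728)))
(.node 2
(.node 1
(.one 2732)
(.one 2734))
(.node 1
(.one 2737)
(.one 2738))))))
(.node 15
(.node 7
(.node 3
(.node 1
(.one 2740)
(.node 1
(.one 2742)
(.one 2744)))
(.node 2
(.node 1
(.one 2748)
(.one 2749))
(.node 1
(.one 2752)
(.one 2757))))
(.node 4
(.node 2
(.node 1
(.one 2758)
(.one 2760))
(.node 1
(.one 2762)
(.one 2764)))
(.node 2
(.node 1
(.one 2765)
(.one 2768))
(.node 1
(.one 2770)
(.one 2772)))))
(.node 8
(.node 4
(.node 2
(.node 1
(.one 2773)
(.one 2776))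
(.node 1
(.one 2777)
(.one 2778)))
(.node 2
(.node 1
(.one 2780)
(.one 2781))
(.node 1
(.one 2786)
(.one 2790))))
(.node 4
(.node 2
(.node 1
(.one 2792)
(.one 2793))
(.node 1
(.one 2794)
(.one 2796)))
(.node 2
(.node 1
(.one 2800)
(.one 2802))
(.node 1
(.one 2804)
(.one 2805))))))))
(.node 61
(.node 30
(.node 15
(.node 7
(.node 3
(.node 1
(.one 2806)
(.node 1
(.one 2808)
(.one 2809)))
(.node 2
(.node 1
(.one 2810)
(.one 2812))
(.node 1
(.one 2816)
(.one 2818))))
(.node 4
(.node 2
(.node 1
(.one 2820)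
(.one 2822))
(.node 1
(.one 2824)
(.one 2825)))
(.node 2
(.node 1
(.one 2826)
(.one 2828))
(.node 1
(.one 2829)
(.one 2836)))))
(.node 7
(.node 3
(.node 1
(.one 2838)
(.node 1
(.one 2841)
(.one 2842)))
(.node 2
(.node 1
(.one 2844)
(.one 2846))
(.node 1
(.one 2848)
(.one 2852))))
(.node 4
(.node 2
(.node 1
(.one 2853)
(.one 2857))
(.node 1
(.one 2858)
(.one 2860)))
(.node 2
(.node 1
(.one 2869)
(.one 2870))
(.node 1
(.one 2873)
(.one 2874))))))
(.node 15
(.node 7
(.node 3
(.node 1
(.one 2881)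
(.node 1
(.one 2882)
(.one 2884)))
(.node 2
(.node 1
(.one 2885)
(.one 2889))
(.node 1
(.one 2893)
(.one 2894))))
(.node 4
(.node 2
(.node 1
(.one 2896)
(.one 2898))
(.node 1
(.one 2900)
(.one 2904)))
(.node 2
(.node 1
(.one 2906)
(.one 2908))
(.node 1
(.one 2910)
(.one 2913)))))
(.node 8
(.node 4
(.node 2
(.node 1
(.one 2914)
(.one 2918))
(.node 1
(.one 2921)
(.one 2922)))
(.node 2
(.node 1
(.one 2924)
(.one 2926))
(.node 1
(.one 2928)
(.one 2933))))
(.node 4
(.node 2
(.node 1
(.one 2936)
(.one 2937))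
(.node 1
(.one 2944)
(.one 2945)))
(.node 2
(.node 1
(.one 2946)
(.one 2949))
(.node 1
(.one 2953)
(.one 2954)))))))
(.node 30
(.node 15
(.node 7
(.node 3
(.node 1
(.one 2956)
(.node 1
(.one 2957)
(.one 2960)))
(.node 2
(.node 1
(.one 2961)
(.one 2966))
(.node 1
(.one 2969)
(.one 2970))))
(.node 4
(.node 2
(.node 1
(.one 2972)
(.one 2973))
(.node 1
(.one 2978)
(.one 2980)))
(.node 2
(.node 1
(.one 2981)
(.one 2982))
(.node 1
(.one 2989)
(.one 2990)))))
(.node 7
(.node 3
(.node 1
(.one 2992)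
(.node 1
(.one 2993)
(.one 2996)))
(.node 2
(.node 1
(.one 2998)
(.one 3000))
(.node 1
(.one 3002)
(.one 3005))))
(.node 4
(.node 2
(.node 1
(.one 3006)
(.one 3009))
(.node 1
(.one 3013)
(.one 3016)))
(.node 2
(.node 1
(.one 3017)
(.one 3018))
(.node 1
(.one 3020)
(.one 3021))))))
(.node 15
(.node 7
(.node 3
(.node 1
(.one 3022)
(.node 1
(.one 3025)
(.one 3026)))
(.node 2
(.node 1
(.one 3028)
(.one 3033))
(.node 1
(.one 3034)
(.one 3036))))
(.node 4
(.node 2
(.node 1
(.one 3037)
(.one 3038))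
(.node 1
(.one 3040)
(.one 3042)))
(.node 2
(.node 1
(.one 3046)
(.one 3048))
(.node 1
(.one 3050)
(.one 3052)))))
(.node 8
(.node 4
(.node 2
(.node 1
(.one 3054)
(.one 3056))
(.node 1
(.one 3057)
(.one 3058)))
(.node 2
(.node 1
(.one 3061)
(.one 3069))
(.node 1
(.one 3070)
(.one 3072))))
(.node 4
(.node 2
(.node 1
(.one 3073)
(.one 3078))
(.node 1
(.one 3082)
(.one 3084)))
(.node 2
(.node 1
(.one 3085)
(.one 3089))
(.node 1
(.one 3090)
(.one 3094)))))))))

/-- links -/
def par6 : Tree :=
(.node 121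
(.node 60
(.node 30
(.node 15
(.node 7
(.node 3
(.node 1
(.one 3096)
(.node 1
(.one 3097)
(.one 3098)))
(.node 2
(.node 1
(.one 3102)
(.one 3104))
(.node 1
(.one 3106)
(.one 3109))))
(.node 4
(.node 2
(.node 1
(.one 3110)
(.one 3112))
(.node 1
(.one 3118)
(.one 3120)))
(.node 2
(.node 1
(.one 3124)
(.one 3126))
(.node 1
(.one 3130)
(.one 3133)))))
(.node 7
(.node 3
(.node 1
(.one 3136)
(.node 1
(.one 3137)
(.one 3141)))
(.node 2
(.node 1
(.one 3142)
(.one 3145))
(.node 1
(.one 3146)
(.one 3149))))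
(.node 4
(.node 2
(.node 1
(.one 3153)
(.one 3154))
(.node 1
(.one 3158)
(.one 3164)))
(.node 2
(.node 1
(.one 3169)
(.one 3172))
(.node 1
(.one 3174)
(.one 3176))))))
(.node 15
(.node 7
(.node 3
(.node 1
(.one 3180)
(.node 1
(.one 3182)
(.one 3184)))
(.node 2
(.node 1
(.one 3185)
(.one 3186))
(.node 1
(.one 3189)
(.one 3192))))
(.node 4
(.node 2
(.node 1
(.one 3205)
(.one 3206))
(.node 1
(.one 3213)
(.one 3214)))
(.node 2
(.node 1
(.one 3217)
(.one 3221))
(.node 1
(.one 3222)
(.one 3226)))))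
(.node 7
(.node 3
(.node 1
(.one 3228)
(.node 1
(.one 3229)
(.one 3232)))
(.node 2
(.node 1
(.one 3238)
(.one 3240))
(.node 1
(.one 3245)
(.one 3249))))
(.node 4
(.node 2
(.node 1
(.one 3250)
(.one 3254))
(.node 1
(.one 3256)
(.one 3257)))
(.node 2
(.node 1
(.one 3262)
(.one 3265))
(.node 1
(.one 3268)
(.one 3269)))))))
(.node 30
(.node 15
(.node 7
(.node 3
(.node 1
(.one 3272)
(.node 1
(.one 3280)
(.one 3284)))
(.node 2
(.node 1
(.one 3285)
(.one 3288))
(.node 1
(.one 3290)
(.one 3292))))
(.node 4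
(.node 2
(.node 1
(.one 3296)
(.one 3300))
(.node 1
(.one 3301)
(.one 3313)))
(.node 2
(.node 1
(.one 3314)
(.one 3318))
(.node 1
(.one 3320)
(.one 3322)))))
(.node 7
(.node 3
(.node 1
(.one 3324)
(.node 1
(.one 3329)
(.one 3330)))
(.node 2
(.node 1
(.one 3333)
(.one 3334))
(.node 1
(.one 3338)
(.one 3341))))
(.node 4
(.node 2
(.node 1
(.one 3342)
(.one 3344))
(.node 1
(.one 3345)
(.one 3349)))
(.node 2
(.node 1
(.one 3350)
(.one 3354))
(.node 1
(.one 3358)
(.one 3360))))))
(.node 15
(.node 7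
(.node 3
(.node 1
(.one 3362)
(.node 1
(.one 3364)
(.one 3370)))
(.node 2
(.node 1
(.one 3373)
(.one 3378))
(.node 1
(.one 3380)
(.one 3385))))
(.node 4
(.node 2
(.node 1
(.one 3386)
(.one 3397))
(.node 1
(.one 3402)
(.one 3404)))
(.node 2
(.node 1
(.one 3405)
(.one 3410))
(.node 1
(.one 3412)
(.one 3413)))))
(.node 8
(.node 4
(.node 2
(.node 1
(.one 3414)
(.one 3420))
(.node 1
(.one 3421)
(.one 3422)))
(.node 2
(.node 1
(.one 3433)
(.one 3434))
(.node 1
(.one 3437)
(.one 3444))))
(.node 4
(.node 2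
(.node 1
(.one 3445)
(.one 3448))
(.node 1
(.one 3449)
(.one 3450)))
(.node 2
(.node 1
(.one 3453)
(.one 3454))
(.node 1
(.one 3456)
(.one 3461))))))))
(.node 61
(.node 30
(.node 15
(.node 7
(.node 3
(.node 1
(.one 3462)
(.node 1
(.one 3465)
(.one 3466)))
(.node 2
(.node 1
(.one 3468)
(.one 3470))
(.node 1
(.one 3474)
(.one 3476))))
(.node 4
(.node 2
(.node 1
(.one 3480)
(.one 3482))
(.node 1
(.one 3484)
(.one 3493)))
(.node 2
(.node 1
(.one 3497)
(.one 3505))
(.node 1
(.one 3508)
(.one 3514)))))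
(.node 7
(.node 3
(.node 1
(.one 3518)
(.node 1
(.one 3520)
(.one 3521)))
(.node 2
(.node 1
(.one 3526)
(.one 3534))
(.node 1
(.one 3538)
(.one 3540))))
(.node 4
(.node 2
(.node 1
(.one 3541)
(.one 3542))
(.node 1
(.one 3546)
(.one 3552)))
(.node 2
(.node 1
(.one 3556)
(.one 3558))
(.node 1
(.one 3565)
(.one 3566))))))
(.node 15
(.node 7
(.node 3
(.node 1
(.one 3570)
(.node 1
(.one 3574)
(.one 3577)))
(.node 2
(.node 1
(.one 3582)
(.one 3586))
(.node 1
(.one 3588)
(.one 3589))))
(.node 4
(.node 2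
(.node 1
(.one 3592)
(.one 3593))
(.node 1
(.one 3594)
(.one 3597)))
(.node 2
(.node 1
(.one 3598)
(.one 3600))
(.node 1
(.one 3610)
(.one 3612)))))
(.node 8
(.node 4
(.node 2
(.node 1
(.one 3616)
(.one 3618))
(.node 1
(.one 3624)
(.one 3626)))
(.node 2
(.node 1
(.one 3630)
(.one 3638))
(.node 1
(.one 3640)
(.one 3645))))
(.node 4
(.node 2
(.node 1
(.one 3646)
(.one 3648))
(.node 1
(.one 3654)
(.one 3657)))
(.node 2
(.node 1
(.one 3672)
(.one 3676))
(.node 1
(.one 3677)
(.one 3678)))))))
(.node 30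
(.node 15
(.node 7
(.node 3
(.node 1
(.one 3694)
(.node 1
(.one 3697)
(.one 3701)))
(.node 2
(.node 1
(.one 3710)
(.one 3717))
(.node 1
(.one 3718)
(.one 3725))))
(.node 4
(.node 2
(.node 1
(.one 3729)
(.one 3730))
(.node 1
(.one 3736)
(.one 3754)))
(.node 2
(.node 1
(.one 3756)
(.one 3757))
(.node 1
(.one 3765)
(.one 3770)))))
(.node 7
(.node 3
(.node 1
(.one 3773)
(.node 1
(.one 3774)
(.one 3797)))
(.node 2
(.node 1
(.one 3800)
(.one 3801))
(.node 1
(.one 3804)
(.one 3810))))
(.node 4
(.node 2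
(.node 1
(.one 3812)
(.one 3818))
(.node 1
(.one 3821)
(.one 3829)))
(.node 2
(.node 1
(.one 3836)
(.one 3838))
(.node 1
(.one 3840)
(.one 3848))))))
(.node 15
(.node 7
(.node 3
(.node 1
(.one 3854)
(.node 1
(.one 3861)
(.one 3866)))
(.node 2
(.node 1
(.one 3869)
(.one 3872))
(.node 1
(.one 3877)
(.one 3880))))
(.node 4
(.node 2
(.node 1
(.one 3896)
(.one 3900))
(.node 1
(.one 3912)
(.one 3916)))
(.node 2
(.node 1
(.one 3917)
(.one 3932))
(.node 1
(.one 3942)
(.one 3953)))))
(.node 8
(.node 4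
(.node 2
(.node 1
(.one 3962)
(.one 3965))
(.node 1
(.one 3976)
(.one 3980)))
(.node 2
(.node 1
(.one 3990)
(.one 4012))
(.node 1
(.one 4013)
(.one 4017))))
(.node 4
(.node 2
(.node 1
(.one 4024)
(.one 4038))
(.node 1
(.one 4044)
(.one 4045)))
(.node 2
(.node 1
(.one 4065)
(.one 4073))
(.node 1
(.one 4077)
(.one 4084)))))))))

/-- links -/
def par7 : Tree :=
(.node 121
(.node 60
(.node 30
(.node 15
(.node 7
(.node 3
(.node 1
(.one 4085)
(.node 1
(.one 4088)
(.one 4094)))
(.node 2
(.node 1
(.one 4112)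
(.one 4113))
(.node 1
(.one 4120)
(.one 4126))))
(.node 4
(.node 2
(.node 1
(.one 4128)
(.one 4132))
(.node 1
(.one 4149)
(.one 4154)))
(.node 2
(.node 1
(.one 4156)
(.one 4174))
(.node 1
(.one 4176)
(.one 4185)))))
(.node 7
(.node 3
(.node 1
(.one 4201)
(.node 1
(.one 4246)
(.one 4264)))
(.node 2
(.node 1
(.one 4270)
(.one 4274))
(.node 1
(.one 4288)
(.one 4298))))
(.node 4
(.node 2
(.node 1
(.one 4326)
(.one 4344))
(.node 1
(.one 4362)
(.one 4365)))
(.node 2
(.node 1
(.one 4396)
(.one 4412))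
(.node 1
(.one 4437)
(.one 4442))))))
(.node 15
(.node 7
(.node 3
(.node 1
(.one 4444)
(.node 1
(.one 4450)
(.one 4474)))
(.node 2
(.node 1
(.one 4546)
(.one 4588))
(.node 1
(.one 4654)
(.one 4658))))
(.node 4
(.node 2
(.node 1
(.one 4660)
(.one 4689))
(.node 1
(.one 4696)
(.one 4702)))
(.node 2
(.node 1
(.one 4769)
(.one 4773))
(.node 1
(.one 4774)
(.one 4782)))))
(.node 7
(.node 3
(.node 1
(.one 4784)
(.node 1
(.one 4786)
(.one 4788)))
(.node 2
(.node 1
(.one 4789)
(.one 4792))
(.node 1
(.one 4800)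
(.one 4802))))
(.node 4
(.node 2
(.node 1
(.one 4804)
(.one 4806))
(.node 1
(.one 4808)
(.one 4809)))
(.node 2
(.node 1
(.one 4810)
(.one 4816))
(.node 1
(.one 4820)
(.one 4822)))))))
(.node 30
(.node 15
(.node 7
(.node 3
(.node 1
(.one 4824)
(.node 1
(.one 4825)
(.one 4826)))
(.node 2
(.node 1
(.one 4828)
(.one 4829))
(.node 1
(.one 4830)
(.one 4832))))
(.node 4
(.node 2
(.node 1
(.one 4833)
(.one 4834))
(.node 1
(.one 4841)
(.one 4844)))
(.node 2
(.node 1
(.one 4845)
(.one 4849))
(.node 1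
(.one 4850)
(.one 4853)))))
(.node 7
(.node 3
(.node 1
(.one 4854)
(.node 1
(.one 4857)
(.one 4862)))
(.node 2
(.node 1
(.one 4864)
(.one 4868))
(.node 1
(.one 4874)
(.one 4876))))
(.node 4
(.node 2
(.node 1
(.one 4885)
(.one 4888))
(.node 1
(.one 4889)
(.one 4890)))
(.node 2
(.node 1
(.one 4892)
(.one 4893))
(.node 1
(.one 4894)
(.one 4897))))))
(.node 15
(.node 7
(.node 3
(.node 1
(.one 4898)
(.node 1
(.one 4900)
(.one 4906)))
(.node 2
(.node 1
(.one 4914)
(.one 4918))
(.node 1
(.one 4920)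
(.one 4921))))
(.node 4
(.node 2
(.node 1
(.one 4928)
(.one 4929))
(.node 1
(.one 4933)
(.one 4934)))
(.node 2
(.node 1
(.one 4936)
(.one 4938))
(.node 1
(.one 4941)
(.one 4944)))))
(.node 8
(.node 4
(.node 2
(.node 1
(.one 4946)
(.one 4952))
(.node 1
(.one 4954)
(.one 4956)))
(.node 2
(.node 1
(.one 4957)
(.one 4962))
(.node 1
(.one 4972)
(.one 4976))))
(.node 4
(.node 2
(.node 1
(.one 4978)
(.one 4981))
(.node 1
(.one 4982)
(.one 4984)))
(.node 2
(.node 1
(.one 4986)
(.one 4990))
(.node 1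
(.one 4992)
(.one 4993))))))))
(.node 61
(.node 30
(.node 15
(.node 7
(.node 3
(.node 1
(.one 4994)
(.node 1
(.one 4996)
(.one 4997)))
(.node 2
(.node 1
(.one 5000)
(.one 5005))
(.node 1
(.one 5006)
(.one 5008))))
(.node 4
(.node 2
(.node 1
(.one 5010)
(.one 5012))
(.node 1
(.one 5016)
(.one 5017)))
(.node 2
(.node 1
(.one 5021)
(.one 5024))
(.node 1
(.one 5029)
(.one 5030)))))
(.node 7
(.node 3
(.node 1
(.one 5037)
(.node 1
(.one 5045)
(.one 5049)))
(.node 2
(.node 1
(.one 5050)
(.one 5056))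
(.node 1
(.one 5064)
(.one 5066))))
(.node 4
(.node 2
(.node 1
(.one 5070)
(.one 5073))
(.node 1
(.one 5074)
(.one 5076)))
(.node 2
(.node 1
(.one 5078)
(.one 5080))
(.node 1
(.one 5088)
(.one 5089))))))
(.node 15
(.node 7
(.node 3
(.node 1
(.one 5090)
(.node 1
(.one 5093)
(.one 5094)))
(.node 2
(.node 1
(.one 5097)
(.one 5100))
(.node 1
(.one 5101)
(.one 5106))))
(.node 4
(.node 2
(.node 1
(.one 5110)
(.one 5112))
(.node 1
(.one 5113)
(.one 5118)))
(.node 2
(.node 1
(.one 5120)
(.one 5121))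
(.node 1
(.one 5122)
(.one 5128)))))
(.node 8
(.node 4
(.node 2
(.node 1
(.one 5132)
(.one 5134))
(.node 1
(.one 5137)
(.one 5138)))
(.node 2
(.node 1
(.one 5144)
(.one 5145))
(.node 1
(.one 5148)
(.one 5149))))
(.node 4
(.node 2
(.node 1
(.one 5153)
(.one 5154))
(.node 1
(.one 5160)
(.one 5161)))
(.node 2
(.node 1
(.one 5162)
(.one 5164))
(.node 1
(.one 5166)
(.one 5174)))))))
(.node 30
(.node 15
(.node 7
(.node 3
(.node 1
(.one 5176)
(.node 1
(.one 5178)
(.one 5180)))
(.node 2
(.node 1
(.one 5181)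
(.one 5182))
(.node 1
(.one 5193)
(.one 5194))))
(.node 4
(.node 2
(.node 1
(.one 5196)
(.one 5197))
(.node 1
(.one 5202)
(.one 5206)))
(.node 2
(.node 1
(.one 5208)
(.one 5209))
(.node 1
(.one 5214)
(.one 5216)))))
(.node 7
(.node 3
(.node 1
(.one 5217)
(.node 1
(.one 5222)
(.one 5224)))
(.node 2
(.node 1
(.one 5229)
(.one 5230))
(.node 1
(.one 5232)
(.one 5236))))
(.node 4
(.node 2
(.node 1
(.one 5238)
(.one 5245))
(.node 1
(.one 5248)
(.one 5249)))
(.node 2
(.node 1
(.one 5253)
(.one 5254))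
(.node 1
(.one 5262)
(.one 5266))))))
(.node 15
(.node 7
(.node 3
(.node 1
(.one 5272)
(.node 1
(.one 5280)
(.one 5282)))
(.node 2
(.node 1
(.one 5284)
(.one 5288))
(.node 1
(.one 5290)
(.one 5292))))
(.node 4
(.node 2
(.node 1
(.one 5293)
(.one 5294))
(.node 1
(.one 5297)
(.one 5300)))
(.node 2
(.node 1
(.one 5310)
(.one 5317))
(.node 1
(.one 5318)
(.one 5321)))))
(.node 8
(.node 4
(.node 2
(.node 1
(.one 5325)
(.one 5326))
(.node 1
(.one 5329)
(.one 5332)))
(.node 2
(.node 1
(.one 5338)
(.one 5340))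
(.node 1
(.one 5345)
(.one 5350))))
(.node 4
(.node 2
(.node 1
(.one 5354)
(.one 5356))
(.node 1
(.one 5362)
(.one 5368)))
(.node 2
(.node 1
(.one 5372)
(.one 5376))
(.node 1
(.one 5378)
(.one 5389)))))))))

/-- links -/
def par8 : Tree :=
(.node 121
(.node 60
(.node 30
(.node 15
(.node 7
(.node 3
(.node 1
(.one 5390)
(.node 1
(.one 5394)
(.one 5398)))
(.node 2
(.node 1
(.one 5401)
(.one 5406))
(.node 1
(.one 5410)
(.one 5413))))
(.node 4
(.node 2
(.node 1
(.one 5418)
(.one 5422))
(.node 1
(.one 5426)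
(.one 5430)))
(.node 2
(.node 1
(.one 5432)
(.one 5438))
(.node 1
(.one 5441)
(.one 5446)))))
(.node 7
(.node 3
(.node 1
(.one 5453)
(.node 1
(.one 5458)
(.one 5460)))
(.node 2
(.node 1
(.one 5461)
(.one 5466))
(.node 1
(.one 5469)
(.one 5470))))
(.node 4
(.node 2
(.node 1
(.one 5476)
(.one 5477))
(.node 1
(.one 5478)
(.one 5485)))
(.node 2
(.node 1
(.one 5486)
(.one 5489))
(.node 1
(.one 5498)
(.one 5501))))))
(.node 15
(.node 7
(.node 3
(.node 1
(.one 5502)
(.node 1
(.one 5505)
(.one 5506)))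
(.node 2
(.node 1
(.one 5509)
(.one 5510))
(.node 1
(.one 5512)
(.one 5514))))
(.node 4
(.node 2
(.node 1
(.one 5529)
(.one 5533))
(.node 1
(.one 5541)
(.one 5550)))
(.node 2
(.node 1
(.one 5554)
(.one 5558))
(.node 1
(.one 5566)
(.one 5570)))))
(.node 7
(.node 3
(.node 1
(.one 5572)
(.node 1
(.one 5574)
(.one 5578)))
(.node 2
(.node 1
(.one 5584)
(.one 5588))
(.node 1
(.one 5590)
(.one 5598))))
(.node 4
(.node 2
(.node 1
(.one 5606)
(.one 5610))
(.node 1
(.one 5613)
(.one 5616)))
(.node 2
(.node 1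
(.one 5618)
(.one 5621))
(.node 1
(.one 5622)
(.one 5634)))))))
(.node 30
(.node 15
(.node 7
(.node 3
(.node 1
(.one 5636)
(.node 1
(.one 5644)
(.one 5646)))
(.node 2
(.node 1
(.one 5650)
(.one 5658))
(.node 1
(.one 5660)
(.one 5665))))
(.node 4
(.node 2
(.node 1
(.one 5666)
(.one 5674))
(.node 1
(.one 5677)
(.one 5692)))
(.node 2
(.node 1
(.one 5696)
(.one 5697))
(.node 1
(.one 5698)
(.one 5714)))))
(.node 7
(.node 3
(.node 1
(.one 5717)
(.node 1
(.one 5721)
(.one 5730)))
(.node 2
(.node 1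
(.one 5737)
(.one 5749))
(.node 1
(.one 5750)
(.one 5752))))
(.node 4
(.node 2
(.node 1
(.one 5774)
(.one 5777))
(.node 1
(.one 5778)
(.one 5801)))
(.node 2
(.node 1
(.one 5805)
(.one 5812))
(.node 1
(.one 5818)
(.one 5821))))))
(.node 15
(.node 7
(.node 3
(.node 1
(.one 5829)
(.node 1
(.one 5838)
(.one 5857)))
(.node 2
(.node 1
(.one 5862)
(.one 5865))
(.node 1
(.one 5868)
(.one 5873))))
(.node 4
(.node 2
(.node 1
(.one 5876)
(.one 5892))
(.node 1
(.one 5896)
(.one 5908)))
(.node 2
(.node 1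
(.one 5912)
(.one 5913))
(.node 1
(.one 5930)
(.one 5946)))))
(.node 8
(.node 4
(.node 2
(.node 1
(.one 5949)
(.one 5964))
(.node 1
(.one 5974)
(.one 5993)))
(.node 2
(.node 1
(.one 5997)
(.one 6004))
(.node 1
(.one 6018)
(.one 6024))))
(.node 4
(.node 2
(.node 1
(.one 6025)
(.one 6045))
(.node 1
(.one 6053)
(.one 6057)))
(.node 2
(.node 1
(.one 6064)
(.one 6070))
(.node 1
(.one 6084)
(.one 6085))))))))
(.node 61
(.node 30
(.node 15
(.node 7
(.node 3
(.node 1
(.one 6092)
(.node 1
(.one 6098)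
(.one 6117)))
(.node 2
(.node 1
(.one 6122)
(.one 6124))
(.node 1
(.one 6138)
(.one 6140))))
(.node 4
(.node 2
(.node 1
(.one 6149)
(.one 6222))
(.node 1
(.one 6226)
(.one 6240)))
(.node 2
(.node 1
(.one 6250)
(.one 6270))
(.node 1
(.one 6284)
(.one 6336)))))
(.node 7
(.node 3
(.node 1
(.one 6352)
(.node 1
(.one 6373)
(.one 6378)))
(.node 2
(.node 1
(.one 6380)
(.one 6386))
(.node 1
(.one 6406)
(.one 6474))))
(.node 4
(.node 2
(.node 1
(.one 6500)
(.one 6566))
(.node 1
(.one 6606)
(.one 6778)))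
(.node 2
(.node 1
(.one 6982)
(.one 6988))
(.node 1
(.one 6994)
(.one 6996))))))
(.node 15
(.node 7
(.node 3
(.node 1
(.one 7001)
(.node 1
(.one 7002)
(.one 7005)))
(.node 2
(.node 1
(.one 7014)
(.one 7022))
(.node 1
(.one 7028)
(.one 7029))))
(.node 4
(.node 2
(.node 1
(.one 7040)
(.one 7048))
(.node 1
(.one 7068)
(.one 7072)))
(.node 2
(.node 1
(.one 7077)
(.one 7084))
(.node 1
(.one 7086)
(.one 7088)))))
(.node 8
(.node 4
(.node 2
(.node 1
(.one 7092)
(.one 7100))
(.node 1
(.one 7104)
(.one 7105)))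
(.node 2
(.node 1
(.one 7117)
(.one 7125))
(.node 1
(.one 7128)
(.one 7138))))
(.node 4
(.node 2
(.node 1
(.one 7141)
(.one 7144))
(.node 1
(.one 7150)
(.one 7156)))
(.node 2
(.node 1
(.one 7157)
(.one 7168))
(.node 1
(.one 7173)
(.one 7176)))))))
(.node 30
(.node 15
(.node 7
(.node 3
(.node 1
(.one 7177)
(.node 1
(.one 7186)
(.one 7190)))
(.node 2
(.node 1
(.one 7196)
(.one 7198))
(.node 1
(.one 7204)
(.one 7209))))
(.node 4
(.node 2
(.node 1
(.one 7210)
(.one 7228))
(.node 1
(.one 7240)
(.one 7249)))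
(.node 2
(.node 1
(.one 7250)
(.one 7265))
(.node 1
(.one 7272)
(.one 7278)))))
(.node 7
(.node 3
(.node 1
(.one 7298)
(.node 1
(.one 7301)
(.one 7318)))
(.node 2
(.node 1
(.one 7328)
(.one 7334))
(.node 1
(.one 7338)
(.one 7345))))
(.node 4
(.node 2
(.node 1
(.one 7350)
(.one 7357))
(.node 1
(.one 7358)
(.one 7368)))
(.node 2
(.node 1
(.one 7377)
(.one 7389))
(.node 1
(.one 7402)
(.one 7408))))))
(.node 15
(.node 7
(.node 3
(.node 1
(.one 7416)
(.node 1
(.one 7426)
(.one 7434)))
(.node 2
(.node 1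
(.one 7458)
(.one 7460))
(.node 1
(.one 7470)
(.one 7481))))
(.node 4
(.node 2
(.node 1
(.one 7505)
(.one 7525))
(.node 1
(.one 7526)
(.one 7542)))
(.node 2
(.node 1
(.one 7546)
(.one 7565))
(.node 1
(.one 7569)
(.one 7585)))))
(.node 8
(.node 4
(.node 2
(.node 1
(.one 7594)
(.one 7605))
(.node 1
(.one 7610)
(.one 7613)))
(.node 2
(.node 1
(.one 7616)
(.one 7632))
(.node 1
(.one 7650)
(.one 7665))))
(.node 4
(.node 2
(.node 1
(.one 7680)
(.one 7768))
(.node 1
(.one 7777)
(.one 7852)))
(.node 2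
(.node 1
(.one 7878)
(.one 8078))
(.node 1
(.one 8465)
(.one 8478)))))))))

/-- order -/
def sorted0 : List ℕ := [0, 2139, 1843, 1934, 1554, 688, 1719, 1149, 1703, 82, 1261, 1498, 202, 681, 453, 510, 2082, 1911, 2045, 1871, 141, 1926, 1438, 369, 1838, 1969, 1032, 948, 1030, 2027, 1930, 1974, 148, 759, 1963, 812, 782, 858, 1945, 2058, 2009, 1268, 554, 1303, 1813, 1887, 1259, 1772, 1978, 178, 96, 1393, 697, 404, 418, 1196, 2156, 1349, 905, 640, 1951, 1874, 1457, 470, 555, 1410, 332, 192, 2012, 1129, 1970, 2076, 1101, 140, 187, 2020, 1921, 271, 532, 13, 2064, 1717, 1489, 1853, 1701, 16, 738, 2137, 1428, 28, 723, 962, 1005, 707, 1066, 2113, 1821, 247, 1341, 2085, 654, 487, 171, 1375, 793, 807, 433, 1462, 1496, 2105, 1291, 1910, 184, 1542, 666, 2169, 403, 704, 9, 1184, 1507, 1511, 1281, 1363, 795, 1267, 45, 1594, 1388, 823, 329, 268, 51, 159, 1361, 775, 490, 1299, 2080, 1100, 1036, 1856, 84, 544, 1673, 331, 1998, 2074, 2078, 86, 1623, 303, 2033, 1459, 637, 2153, 66, 754, 1774, 2164,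 1170, 1633, 262, 2161, 1631, 953, 1431, 798, 1074, 1850, 999, 24, 685, 64, 7, 845, 1288, 574, 961, 908, 615, 1807, 364, 1976, 1493, 207, 1402, 711, 1483, 524, 1159, 1650, 1537, 2160, 1588, 1672, 387, 1043, 761, 739, 1058, 1026, 2121, 2163, 248, 1837, 824, 472, 1510, 308, 1533, 1826, 579, 1819, 988, 1034, 2048, 983, 1096, 808, 1562, 1266, 2126, 8, 1251, 1280, 1712, 1239, 1761, 1806, 1540, 1314, 634, 325, 204, 1560, 60, 68, 1674, 1948, 898, 702, 2019]

/-- order -/
def sorted1 : List ℕ := [1315, 255, 818, 1847, 1664, 1797, 603, 2026, 636, 1616, 1033, 59, 432, 314, 350, 2185, 2134, 270, 687, 394, 179, 1455, 2068, 862, 241, 1848, 1563, 705, 1939, 586, 1745, 1553, 1014, 804, 1566, 1356, 106, 450, 1787, 2101, 1555, 1964, 1516, 540, 436, 1746, 1996, 1814, 1423, 658, 1006, 1649, 2176, 1734, 683, 114, 811, 493, 1949, 1325, 982, 168, 289, 1820, 2034, 773, 2, 1581, 1528, 144, 1348, 102, 880, 1187, 259, 1977, 750, 1593, 1404, 545, 2038, 2010, 1527, 1794, 1316, 722, 1139, 164, 65, 1047, 1223,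 642, 549, 1846, 1327, 334, 359, 399, 2178, 716, 492, 488, 485, 1634, 1175, 1310, 1227, 661, 976, 245, 1103, 2055, 170, 280, 107, 1164, 1799, 1960, 903, 1944, 1198, 1342, 56, 1122, 1232, 1053, 526, 1004, 1828, 15, 728, 1252, 1573, 888, 1849, 1844, 340, 1228, 313, 234, 200, 23, 2017, 977, 2089, 1456, 1081, 2014, 92, 396, 669, 1644, 1795, 151, 1210, 774, 1016, 220, 733, 1379, 213, 1296, 1659, 1783, 426, 189, 412, 2144, 536, 149, 869, 600, 264, 1955, 1591, 2184, 1519, 2022, 1988, 55, 794, 568, 1075, 643, 99, 2186, 353, 1666, 70, 1411, 2025, 279, 1801, 1897, 1855, 710, 2129, 560, 1273, 468, 607, 499, 1045, 897, 48, 2030, 1331, 1662, 2029, 1277, 1683, 1770, 1775, 1891, 1436, 2098, 77, 664, 2016, 1482, 932, 20, 2183, 992, 1336, 1657, 1480, 1012, 531, 1927, 674, 177, 463, 1959, 371, 1237, 120, 473, 675, 379, 322, 484, 875]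

/-- order -/
def sorted2 : List ℕ := [1802, 893, 400, 2021, 1547, 1984, 1645, 762, 839, 689, 2138, 1693, 1007, 1162, 1863, 381, 1637, 1110, 76, 951, 2119, 682, 1298, 1671, 413, 1120, 444, 2152, 1503, 1466, 1975, 1260, 1481, 1920, 1514, 1906, 1297, 632, 239, 1747, 1884, 355, 1485, 2036, 1271, 2149, 253, 323, 1306, 198, 227, 1395, 1957, 1429, 618, 1439, 2073, 1817, 1873, 1625, 1982, 169, 22, 1764, 1630, 850, 275, 2059, 146, 564, 1660, 489, 1665, 851, 1699, 1912, 501, 366, 963, 1373, 315, 1624, 1117, 1654, 1578, 1432, 1419, 521, 1282, 233, 1295, 406, 790, 2047, 1471, 251, 598, 230, 504, 784, 91, 1779, 854, 718, 372, 1236, 1166, 370, 1072, 1192, 937, 735, 1294, 236, 196, 298, 783, 1698, 1676, 895, 1792, 1812, 655, 319, 103, 49, 1738, 1520, 2028, 477, 2141, 1689, 486, 1195, 1621, 163, 2106, 132, 1994, 128, 1811, 922, 633, 32, 870, 1523, 2093, 182, 2135, 548, 2177, 1165, 172, 1106, 1915, 2066, 819, 1913, 1744, 990, 127, 912, 345, 864, 787, 1476, 1903, 1890, 429, 1399, 1598, 1097, 1651,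 1742, 693, 405, 860, 408, 1044, 2083, 2032, 1371, 975, 357, 587, 1358, 347, 1894, 606, 52, 361, 2070, 1056, 745, 1952, 138, 304, 1225, 2122, 1111, 660, 622, 1531, 1830, 330, 180, 1050, 626, 1275, 1460, 1922, 1478, 1682, 715, 1353, 2147, 792, 1121, 547, 1995, 449, 126, 721, 1212, 356, 1001, 324, 753, 1320, 1840, 1680, 742, 1194, 154, 1946, 278, 613, 458, 542, 226, 222, 1021, 1249]

/-- order -/
def sorted3 : List ℕ := [1885, 580, 335, 648, 1008, 1655, 269, 1364, 1585, 1381, 866, 30, 911, 639, 422, 1661, 1597, 160, 1617, 657, 348, 1328, 443, 368, 1491, 558, 109, 1290, 930, 969, 430, 208, 1559, 2143, 1568, 1816, 1115, 1993, 1366, 1556, 1254, 957, 389, 158, 907, 556, 926, 454, 83, 2146, 1753, 197, 1200, 2003, 815, 876, 1240, 1564, 1923, 2095, 1694, 1168, 190, 1546, 949, 899, 441, 701, 538, 1272, 63, 1679, 624, 1357, 817, 305, 1571, 165, 1011, 1530, 1793, 877, 299, 460, 645, 383, 1752, 1755, 662, 509, 1248, 112, 297, 1549, 2158, 1502, 2077, 1140, 69, 2154, 243, 747, 482, 1401, 1351,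 1961, 1780, 1501, 246, 2142, 2053, 1640, 351, 772, 1477, 5, 57, 691, 572, 2035, 1055, 367, 2115, 27, 1390, 2001, 1579, 1810, 139, 1094, 1611, 620, 1990, 421, 1771, 1132, 1157, 2150, 2131, 1545, 1154, 1509, 375, 927, 1461, 1334, 2159, 592, 518, 1377, 1113, 2165, 945, 1039, 1858, 569, 1925, 1312, 503, 431, 1590, 1160, 1464, 1038, 498, 500, 18, 1152, 216, 950, 805, 581, 836, 1015, 1782, 1985, 971, 374, 1628, 686, 731, 1656, 1835, 757, 1614, 1576, 758, 37, 2108, 537, 981, 71, 1669, 1796, 50, 1247, 1062, 1370, 1099, 1732, 3, 663, 1525, 1002, 2116, 2057, 382, 788, 1708, 619, 863, 2171, 502, 409, 1791, 2109, 565, 1108, 2008, 1895, 867, 1151, 2125, 1418, 342, 1931, 841, 2097, 1758, 1696, 1374, 1407, 1859, 1215, 1264, 75, 290, 1146, 1435, 1000, 1367, 210, 1626]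

/-- order -/
def sorted4 : List ℕ := [1258, 802, 1726, 853, 1648, 1904, 231, 2155, 1938, 623, 1063, 1350, 829, 384, 445, 1193, 571, 1599, 110, 153, 831, 814, 941, 1870, 1532, 909, 1474, 1416, 647, 1684, 2103, 766, 1686, 214, 680, 638, 1433, 2023, 224, 136, 1629, 890, 813, 1636, 1677, 1592, 589, 1518, 1417, 1408, 1668, 959, 1867, 1979, 2128, 1202, 2042, 2099, 497, 659, 768, 89, 328, 53, 1214, 1413, 2170, 847, 1010, 1789, 333, 1999, 712, 2173, 1257, 145, 1190, 891, 1292, 1943, 1335, 1539, 1447, 442, 1862, 856, 1173, 2000, 46, 1857, 894, 1737, 175, 900, 411, 1359, 596, 1567, 695, 506, 1551, 1167, 1886, 1048, 2148, 33, 591, 44, 885, 388, 865, 1102, 1730, 883, 1809, 1638, 1729, 595, 47, 302, 770, 1380, 1899, 1901, 671, 1615, 840, 743, 1642, 1216, 1116, 1425, 678, 1197, 1587, 1233, 346, 181, 809, 1652, 1025, 1138, 1064, 1865, 85, 1453, 505, 2063, 1130, 871, 94, 1757, 267, 2075, 1552, 1800, 1161, 1917, 713, 1675, 1051, 1076, 1203, 1434, 1037, 1174, 272, 61, 135, 2124, 258, 1536, 462,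 166, 1739, 1947, 407, 755, 205, 1869, 1875, 1098, 1950, 706, 588, 1866, 428, 616, 455, 1135, 438, 1308, 2061, 631, 1126, 1365, 2041, 1777, 1936, 1355, 2145, 679, 1877, 1663, 896, 104, 993, 446, 2130, 1954, 237, 1824, 437, 1916, 1204, 1304, 1762, 1781, 872, 58, 150, 425, 835, 1773, 1114, 617, 2123, 1343, 1024, 522, 601, 1878, 1486, 206, 1285, 2002, 1221, 1596, 806, 1627, 1487, 1690, 1217]

/-- order -/
def sorted5 : List ℕ := [209, 1169, 1386, 1255, 1589, 994, 781, 848, 1414, 1322, 1786, 1085, 1124, 1956, 1705, 2172, 26, 423, 1346, 1521, 1888, 1815, 1234, 494, 1803, 1720, 43, 254, 944, 1778, 1385, 559, 1176, 1279, 1653, 1070, 1724, 1607, 828, 672, 800, 1142, 1557, 878, 1243, 2182, 2037, 882, 1972, 786, 2071, 125, 1104, 1226, 709, 124, 1054, 310, 390, 199, 667, 1805, 284, 1283, 1641, 1933, 2181, 1569, 1046, 1206, 1093, 1421, 673, 1209, 1394, 1185, 575, 1928, 195, 2110, 185, 708, 1940, 543, 1748, 480, 902, 157, 1580, 1658, 479, 311, 373, 546, 628, 420, 142, 122, 803, 337, 668, 756,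 1618, 483, 1495, 1769, 2072, 1646, 2167, 2011, 1049, 1286, 1088, 1713, 1360, 1935, 2031, 257, 1834, 656, 1397, 593, 1219, 1538, 2127, 1522, 1412, 720, 1305, 563, 924, 1842, 727, 1382, 1583, 1238, 644, 414, 363, 1392, 1123, 1733, 1442, 1398, 1450, 881, 834, 2015, 1704, 1584, 830, 918, 967, 1019, 467, 1497, 1031, 1883, 1323, 1372, 1171, 1155, 1071, 1040, 916, 1601, 553, 653, 561, 232, 578, 582, 1468, 398, 2120, 2043, 1218, 1127, 424, 1131, 1079, 2091, 238, 777, 176, 1505, 1499, 1396, 1827, 2102, 1570, 451, 2079, 286, 551, 1274, 698, 1213, 577, 1112, 1572, 820, 1561, 212, 1069, 1181, 939, 1558, 377, 1338, 771, 277, 511, 1731, 1504, 2179, 316, 343, 1548, 288, 514, 260, 1340, 985, 846, 1707, 2132, 1784, 81, 1876, 741, 764, 344, 54, 1983, 2004, 1836, 1029, 471, 2013, 1541, 1722, 111]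

/-- order -/
def sorted6 : List ℕ := [1681, 827, 998, 1125, 1711, 602, 573, 857, 799, 2104, 1369, 1595, 1577, 456, 1241, 1420, 986, 562, 391, 1426, 694, 62, 349, 1918, 481, 1565, 1898, 597, 904, 528, 156, 1723, 1515, 1362, 1084, 797, 1667, 1880, 321, 1986, 147, 635, 1400, 1300, 517, 938, 285, 121, 968, 826, 1987, 1765, 934, 95, 2094, 1347, 97, 1330, 1246, 1728, 2162, 194, 1345, 1741, 1609, 837, 736, 318, 1697, 105, 1619, 625, 1825, 250, 1020, 1469, 1376, 448, 1605, 2050, 646, 79, 2096, 1309, 740, 464, 769, 1134, 1458, 281, 217, 1332, 2157, 1788, 1073, 1144, 567, 1735, 1953, 188, 459, 1409, 583, 249, 1864, 1384, 1145, 1981, 995, 1736, 989, 88, 203, 779, 887, 1179, 1962, 523, 1980, 1692, 341, 1839, 183, 699, 1965, 796, 317, 1301, 39, 752, 475, 434, 1177, 729, 143, 461, 1313, 868, 1574, 665, 650, 1128, 1768, 1868, 1647, 2112, 1229, 1448, 1484, 1740, 2118, 627, 737, 966, 2168, 1307, 776, 791, 1889, 1968, 1090, 1443, 223, 1109, 1245, 1172, 1022, 1333, 541, 1715, 1526, 552, 584, 1023,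 1211, 1095, 10, 21, 1914, 1091, 294, 749, 789, 778, 1823, 2046, 215, 1992, 1754, 1604, 2024, 2107, 714, 1534, 1454, 465, 1971, 352, 1224, 997, 1201, 1013, 123, 1892, 726, 1352, 507, 117, 780, 1083, 527, 1750, 474, 677, 822, 1150, 34, 1756, 1451, 1262, 1143, 1710, 1586, 1383, 1829, 439, 1220, 435, 1905, 1513, 886, 252, 2084, 469, 609, 651, 12, 1688, 440, 113, 1119, 74, 1270]

/-- order -/
def sorted7 : List ℕ := [1092, 2052, 38, 512, 452, 684, 1057, 1958, 923, 1441, 1709, 2069, 67, 936, 395, 1475, 36, 1188, 1009, 1544, 1620, 874, 892, 219, 1929, 947, 1403, 1639, 115, 1861, 417, 41, 1059, 1086, 2005, 1337, 1178, 1632, 1060, 1492, 1602, 1289, 1575, 296, 1052, 1635, 929, 263, 307, 1326, 385, 244, 1158, 935, 785, 725, 2062, 1405, 11, 116, 810, 1354, 1148, 917, 1244, 1718, 2114, 1991, 842, 161, 416, 1767, 1743, 211, 1118, 724, 1759, 2065, 590, 1610, 1942, 1852, 191, 1727, 1087, 274, 72, 19, 913, 1860, 973, 201, 1881, 746, 1061, 1147, 1027, 515, 1678, 256, 1472, 1324, 1613, 108, 942,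 242, 173, 1, 186, 261, 229, 1319, 1725, 1612, 1311, 1851, 1153, 1907, 1321, 751, 539, 1685, 978, 1818, 921, 1205, 2007, 1318, 1643, 221, 914, 576, 402, 1080, 1909, 326, 392, 466, 884, 1278, 1387, 1242, 838, 629, 393, 273, 1749, 1269, 1535, 35, 1440, 1302, 1529, 605, 859, 557, 225, 2180, 1035, 530, 410, 1028, 1253, 604, 1997, 520, 946, 832, 513, 1966, 1406, 228, 1182, 2006, 1415, 919, 362, 4, 849, 42, 1018, 1845, 608, 611, 649, 987, 276, 338, 1444, 906, 1967, 931, 1137, 380, 1183, 1896, 1344, 1284, 955, 652, 1776, 1465, 1512, 1831, 457, 996, 1276, 1900, 2092, 970, 365, 984, 1163, 287, 292, 641, 1706, 1714, 2140, 1721, 690, 1089, 447, 889, 1250, 1065, 744, 1445, 1473, 910, 1700, 401, 376, 1670, 309, 1882, 1077, 1230, 844, 1180, 31, 134, 354]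

/-- order -/
def sorted8 : List ℕ := [519, 1854, 130, 101, 2166, 1691, 1424, 2174, 1256, 2081, 614, 235, 137, 901, 1017, 748, 495, 1790, 954, 2086, 1078, 964, 1067, 732, 676, 2060, 1317, 933, 610, 1265, 730, 1973, 282, 14, 1695, 265, 943, 2088, 1841, 956, 1508, 630, 1231, 1082, 1941, 861, 1606, 2018, 397, 940, 719, 585, 529, 496, 1622, 1207, 1427, 1751, 2054, 879, 2151, 2039, 915, 1446, 1329, 1293, 1608, 670, 155, 266, 734, 1989, 1500, 1136, 6, 415, 1872, 1041, 1766, 765, 703, 825, 1378, 1389, 90, 1391, 291, 1488, 2100, 1208, 152, 1804, 301, 218, 1822, 378, 87, 1191, 336, 960, 855, 991, 1422, 1186, 692, 1524, 2049, 167, 320, 1543, 306, 1919, 925, 1582, 1494, 78, 1808, 833, 1449, 508, 162, 1339, 760, 1517, 621, 2056, 1068, 193, 1702, 312, 295, 119, 1463, 1924, 594, 2117, 1600, 25, 1893, 534, 2040, 2044, 612, 419, 1832, 920, 516, 821, 1763, 1902, 29, 767, 1908, 339, 972, 533, 974, 570, 2067, 1785, 293, 1490, 1105, 2090, 2133, 1141, 717, 1716, 131, 1235, 93, 1368, 566, 80, 1879,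 535, 1287, 174, 129, 801, 1430, 1603, 240, 358, 360, 816, 873, 1042, 300, 1937, 476, 763, 427, 1467, 952, 1479, 980, 2175, 1199, 17, 1470, 2136, 958, 1932, 696, 928, 852, 1263, 700, 1189, 118, 2087, 283, 843, 40, 965, 1156, 133, 1452, 525, 2111, 1760, 1437, 327, 491, 1003, 1687, 1550, 1133, 73, 979, 98, 2051, 1506, 478, 599, 1833, 1222, 1798, 550, 386, 1107, 100]

end CfsgLib.LyThree33
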